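import Cfsg.Agent.Lib.Fischer.Basic
import Mathlib.GroupTheory.PGroup

/-!
# 3-transposition groups over a 2-kernel

`π : G → H` is onto with kernel a 2-group, `G` has trivial centre and is generated by the class `D`,
and (`bridge`) the members commuting with `d` join any two fibres not commuting with `d`.
`A π D d` is generated by the `x` in the kernel with `d * x ∈ D`.  These groups are normalised by
the kernel, commute with each other, and two of them at non-commuting members meet trivially;
`T e a = a e a e` induces mutually inverse maps between them.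
-/

set_option autoImplicit false

namespace Cfsg.Agent.Transpos.OTwo

open Cfsg.Agent.Fischer

variable {G H : Type*} [Group G] [Group H]

/-- The standing hypotheses. -/
structure Ctx (π : G →* H) (D : Set G) : Prop where
  cls : TClass D
  center : Subgroup.center G = ⊥
  two : IsPGroup 2 π.ker
  bridge : ∀ d ∈ D, ∀ e ∈ D, ∀ f ∈ D, ¬Commute d e → ¬Commute d f →
    ∃ g ∈ Subgroup.closure {s | s ∈ D ∧ Commute s d}, π (g * e * g⁻¹) = π f

/-- The kernel elements `x` with `d * x ∈ D`. -/
def diff (π : G →* H) (D : Set G) (d : G) : Set G := {x | π x = 1 ∧ d * x ∈ D}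

/-- The group they generate. -/
def A (π : G →* H) (D : Set G) (d : G) : Subgroup G := Subgroup.closure (diff π D d)

/-- The group generated by all of them. -/
def N (π : G →* H) (D : Set G) : Subgroup G := Subgroup.closure (⋃ d ∈ D, diff π D d)

/-- The commutator operator of an involution on the abelian normal group. -/
def T (e a : G) : G := a * e * a * e

variable {π : G →* H} {D : Set G}

theorem commute_of_map (c : Ctx π D) {a b : G} (ha : a ∈ D) (hb : b ∈ D)
    (h : Commute (π a) (π b)) : Commute a b := by
  rcases c.cls.ord a ha b hb with h2 | h3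
  · exact c.cls.toTSet.commute_of_sq ha hb h2
  · have hm : (a * b) ^ 2 ∈ π.ker := by
      have sq : ∀ x ∈ D, π x * π x = 1 := fun x hx => by rw [← map_mul, c.cls.sq x hx, map_one]
      rw [MonoidHom.mem_ker, map_pow, map_mul, h.mul_pow, pow_two, pow_two, sq a ha, sq b hb, one_mul]
    obtain ⟨k, hk⟩ := c.two ⟨_, hm⟩
    have hk' : ((a * b) ^ 2) ^ 2 ^ k = 1 := congrArg Subtype.val hk
    rw [← pow_mul] at hk'
    have hg : (a * b) ^ Nat.gcd (2 * 2 ^ k) 3 = 1 := pow_gcd_eq_one.2 ⟨hk', h3⟩
    have hcop : Nat.gcd (2 * 2 ^ k) 3 = 1 := by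
      rw [← pow_succ']
      exact Nat.Coprime.pow_left _ (by decide)
    rw [hcop, pow_one] at hg
    have : a = b := by rw [mul_eq_one_iff_eq_inv, c.cls.toTSet.inv_eq hb] at hg; exact hg
    exact this ▸ Commute.refl a

theorem commute_iff (c : Ctx π D) {a b : G} (ha : a ∈ D) (hb : b ∈ D) :
    Commute a b ↔ Commute (π a) (π b) := ⟨fun h => h.map π, commute_of_map c ha hb⟩

theorem commute_congr (c : Ctx π D) {a a' b : G} (ha : a ∈ D) (ha' : a' ∈ D) (hb : b ∈ D)
    (h : π a = π a') : Commute a b ↔ Commute a' b := by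
  rw [commute_iff c ha hb, commute_iff c ha' hb, h]

/-- A member commuting with `d` centralises `A d`. -/
theorem commute_A (c : Ctx π D) {d e x : G} (hd : d ∈ D) (he : e ∈ D) (hde : Commute d e)
    (hx : x ∈ A π D d) : Commute e x := by
  induction hx using Subgroup.closure_induction with
  | mem y hy =>
    have h1 : Commute e (d * y) := ((commute_congr c hd hy.2 he (by rw [map_mul, hy.1, mul_one])).1 hde).symm
    have h2 := hde.symm.inv_right.mul_right h1
    rwa [inv_mul_cancel_left] at h2
  | one => exact Commute.one_right e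
  | mul y z _ _ hy hz => exact hy.mul_right hz
  | inv y _ hy => exact hy.inv_right

theorem ker_of_mem_A {d x : G} (hx : x ∈ A π D d) : π x = 1 := by
  have : A π D d ≤ π.ker := (Subgroup.closure_le _).2 fun y hy => hy.1
  exact this hx

theorem A_le_N {d : G} (hd : d ∈ D) : A π D d ≤ N π D :=
  Subgroup.closure_mono fun _ hx => Set.mem_biUnion hd hx

theorem ker_of_mem_N {x : G} (hx : x ∈ N π D) : π x = 1 := by
  have : N π D ≤ π.ker := (Subgroup.closure_le _).2 fun y hy => by
    obtain ⟨d, -, hd⟩ := Set.mem_iUnion₂.1 hy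
    exact hd.1
  exact this hx

/-- The kernel normalises every `A d`. -/
theorem conj_mem_A (c : Ctx π D) {d v x : G} (hd : d ∈ D) (hv : π v = 1) (hx : x ∈ A π D d) :
    v * x * v⁻¹ ∈ A π D d := by
  have hy : d⁻¹ * (v * d * v⁻¹) ∈ diff π D d := ⟨by simp [hv], by
    rw [mul_inv_cancel_left]; exact c.cls.conj v d hd⟩
  induction hx using Subgroup.closure_induction with
  | mem y hy' =>
    have hz : d⁻¹ * (v * (d * y) * v⁻¹) ∈ diff π D d := ⟨by simp [hv, hy'.1], by
      rw [mul_inv_cancel_left]; exact c.cls.conj v _ hy'.2⟩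
    have := mul_mem (inv_mem (Subgroup.subset_closure hy)) (Subgroup.subset_closure hz)
    simpa [A, mul_assoc] using this
  | one => simp
  | mul y z _ _ hy hz => simpa [mul_assoc] using mul_mem hy hz
  | inv y _ hy => simpa [mul_assoc] using inv_mem hy

/-- `v` moves `d` inside `d A d`. -/
theorem conj_self_mem (c : Ctx π D) {d v : G} (hd : d ∈ D) (hv : π v = 1) :
    d⁻¹ * (v * d * v⁻¹) ∈ A π D d :=
  Subgroup.subset_closure ⟨by simp [hv], by rw [mul_inv_cancel_left]; exact c.cls.conj v d hd⟩

/-- Kernel elements centralising the members that commute with `d` and one fibre off `d` are trivial. -/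
theorem eq_one (c : Ctx π D) {d e x : G} (hd : d ∈ D) (he : e ∈ D) (hde : ¬Commute d e)
    (h1 : ∀ s ∈ D, Commute s d → Commute x s)
    (h2 : ∀ s ∈ D, π s = π e → Commute x s) : x = 1 := by
  have key : ∀ f ∈ D, Commute x f := fun f hf => by
    by_cases hfd : Commute f d
    · exact h1 f hf hfd
    obtain ⟨g, hg, hgf⟩ := c.bridge d hd e he f hf hde fun h => hfd h.symm
    have hxg : Commute x g := by
      have : Subgroup.closure {s | s ∈ D ∧ Commute s d} ≤ Subgroup.centralizer {x} :=
        (Subgroup.closure_le _).2 fun s hs =>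
          Subgroup.mem_centralizer_singleton_iff.2 (h1 s hs.1 hs.2).eq.symm
      exact (Subgroup.mem_centralizer_singleton_iff.1 (this hg)).symm
    have hf' : Commute x (g⁻¹ * f * g) := by
      refine h2 _ ?_ ?_
      · simpa using c.cls.conj g⁻¹ f hf
      · rw [map_mul, map_mul, map_inv, ← hgf]
        simp [mul_assoc]
    have := (hxg.mul_right hf').mul_right hxg.inv_right
    simpa [mul_assoc] using this
  have : x ∈ Subgroup.center G := by
    rw [Subgroup.mem_center_iff]
    intro y
    have hy : y ∈ Subgroup.closure D := by rw [c.cls.gen]; trivial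
    have hle : Subgroup.closure D ≤ Subgroup.centralizer {x} :=
      (Subgroup.closure_le _).2 fun f hf => Subgroup.mem_centralizer_singleton_iff.2 (key f hf).eq.symm
    exact Subgroup.mem_centralizer_singleton_iff.1 (hle hy)
  rwa [c.center, Subgroup.mem_bot] at this

/-- Two of the groups at non-commuting members meet trivially. -/
theorem inter_eq_one (c : Ctx π D) {d e x : G} (hd : d ∈ D) (he : e ∈ D) (hde : ¬Commute d e)
    (hxd : x ∈ A π D d) (hxe : x ∈ A π D e) : x = 1 :=
  eq_one c hd he hde (fun _ hs h => (commute_A c hd hs h.symm hxd).symm)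
    fun _ hs h => (commute_A c he hs ((commute_congr c he hs he h.symm).1 (Commute.refl e)).symm hxe).symm

/-- `T e` kills nothing in `A d` off the perp of `d`. -/
theorem eq_one_of_commute (c : Ctx π D) {d e x : G} (hd : d ∈ D) (he : e ∈ D) (hde : ¬Commute d e)
    (hx : x ∈ A π D d) (h : ∀ f ∈ D, π f = π e → Commute x f) : x = 1 :=
  eq_one c hd he hde (fun _ hs h' => (commute_A c hd hs h'.symm hx).symm) h

/-- The groups are abelian and commute with each other. -/
theorem commute_AA (c : Ctx π D) {d e a b : G} (hd : d ∈ D) (he : e ∈ D) (ha : a ∈ A π D d)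
    (hb : b ∈ A π D e) : Commute a b := by
  by_cases hde : Commute d e
  · induction hb using Subgroup.closure_induction with
    | mem y hy =>
      have h1 := commute_A c hd he hde ha
      have h2 := commute_A c hd hy.2 ((commute_congr c he hy.2 hd (by rw [map_mul, hy.1, mul_one])).1 hde.symm).symm ha
      have h3 := h1.inv_left.mul_left h2
      rw [inv_mul_cancel_left] at h3
      exact h3.symm
    | one => exact Commute.one_right a
    | mul y z _ _ hy hz => exact hy.mul_right hz
    | inv y _ hy => exact hy.inv_right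
  · have h1 : a * b * a⁻¹ * b⁻¹ ∈ A π D d := by
      have := mul_mem ha (conj_mem_A c hd (ker_of_mem_A hb) (inv_mem ha))
      simpa [mul_assoc] using this
    have h2 : a * b * a⁻¹ * b⁻¹ ∈ A π D e :=
      mul_mem (conj_mem_A c he (ker_of_mem_A ha) hb) (inv_mem hb)
    have := inter_eq_one c hd he hde h1 h2
    change a * b = b * a
    exact mul_inv_eq_iff_eq_mul.1 (by simpa using mul_inv_eq_one.1 this)

theorem commute_N (c : Ctx π D) {a b : G} (ha : a ∈ N π D) (hb : b ∈ N π D) : Commute a b := by
  have hA : ∀ d ∈ D, ∀ x ∈ A π D d, ∀ y ∈ N π D, Commute x y := fun d hd x hx y hy => by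
    induction hy using Subgroup.closure_induction with
    | mem y hy =>
      obtain ⟨e, he, hye⟩ := Set.mem_iUnion₂.1 hy
      exact commute_AA c hd he hx (Subgroup.subset_closure hye)
    | one => exact Commute.one_right x
    | mul y z _ _ hy hz => exact hy.mul_right hz
    | inv y _ hy => exact hy.inv_right
  induction ha using Subgroup.closure_induction with
  | mem x hx =>
    obtain ⟨d, hd, hxd⟩ := Set.mem_iUnion₂.1 hx
    exact hA d hd x (Subgroup.subset_closure hxd) b hb
  | one => exact Commute.one_left b
  | mul x y _ _ hx hy => exact hx.mul_left hy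
  | inv x _ hx => exact hx.inv_left

theorem sq_diff (c : Ctx π D) {d y : G} (hd : d ∈ D) (hy : y ∈ diff π D d) : y * y = 1 := by
  have h := commute_A c hd hd (Commute.refl d) (Subgroup.subset_closure hy)
  have h2 := c.cls.sq _ hy.2
  rw [mul_assoc, ← mul_assoc y d, ← h.eq, mul_assoc d y, ← mul_assoc d d, c.cls.sq d hd, one_mul] at h2
  exact h2

theorem sq_N (c : Ctx π D) {a : G} (ha : a ∈ N π D) : a * a = 1 := by
  induction ha using Subgroup.closure_induction with
  | mem x hx =>
    obtain ⟨d, hd, hxd⟩ := Set.mem_iUnion₂.1 hx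
    exact sq_diff c hd hxd
  | one => exact one_mul 1
  | mul x y hx hy h1 h2 =>
    calc x * y * (x * y) = x * (y * x) * y := by simp only [mul_assoc]
      _ = x * (x * y) * y := by rw [(commute_N c hy hx).eq]
      _ = 1 := by rw [← mul_assoc x x, h1, one_mul, h2]
  | inv x _ h => rw [← mul_inv_rev, h, inv_one]

theorem conj_diff (c : Ctx π D) (g : G) {d x : G} (hx : x ∈ diff π D d) :
    g * x * g⁻¹ ∈ diff π D (g * d * g⁻¹) :=
  ⟨by simp [hx.1], by simpa [mul_assoc] using c.cls.conj g _ hx.2⟩

theorem conj_A (c : Ctx π D) (g : G) {d x : G} (hx : x ∈ A π D d) :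
    g * x * g⁻¹ ∈ A π D (g * d * g⁻¹) := by
  induction hx using Subgroup.closure_induction with
  | mem y hy => exact Subgroup.subset_closure (conj_diff c g hy)
  | one => simp
  | mul y z _ _ hy hz => simpa [mul_assoc] using mul_mem hy hz
  | inv y _ hy => simpa [mul_assoc] using inv_mem hy

theorem N_normal (c : Ctx π D) : (N π D).Normal := ⟨fun x hx g => by
  induction hx using Subgroup.closure_induction with
  | mem y hy =>
    obtain ⟨d, hd, hyd⟩ := Set.mem_iUnion₂.1 hy
    exact Subgroup.subset_closure (Set.mem_biUnion (c.cls.conj g d hd) (conj_diff c g hyd))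
  | one => simp
  | mul y z _ _ hy hz => simpa [mul_assoc] using mul_mem hy hz
  | inv y _ hy => simpa [mul_assoc] using inv_mem hy⟩

/-- Members over the same image give the same group. -/
theorem A_congr (c : Ctx π D) {d d' : G} (hd : d ∈ D) (hd' : d' ∈ D) (h : π d = π d') :
    A π D d = A π D d' := by
  suffices key : ∀ {a b : G}, a ∈ D → b ∈ D → π a = π b → A π D b ≤ A π D a from
    le_antisymm (key hd' hd h.symm) (key hd hd' h)
  intro a b ha hb e
  refine (Subgroup.closure_le _).2 fun y hy => ?_
  have h1 : a⁻¹ * b ∈ diff π D a := ⟨by simp [e], by rwa [mul_inv_cancel_left]⟩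
  have h2 : a⁻¹ * (b * y) ∈ diff π D a := ⟨by simp [e, hy.1], by rw [mul_inv_cancel_left]; exact hy.2⟩
  have := mul_mem (inv_mem (Subgroup.subset_closure h1)) (Subgroup.subset_closure h2)
  simpa [A, mul_assoc] using this

theorem inv_N (c : Ctx π D) {a : G} (ha : a ∈ N π D) : a⁻¹ = a :=
  inv_eq_of_mul_eq_one_right (sq_N c ha)

/-- `e a e` stays in the normal group. -/
theorem conj_e_mem (c : Ctx π D) {e a : G} (he : e ∈ D) (ha : a ∈ N π D) : e * a * e ∈ N π D := by
  have := (N_normal c).conj_mem a ha e
  rwa [c.cls.toTSet.inv_eq he] at this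

theorem T_mem (c : Ctx π D) {e a : G} (he : e ∈ D) (ha : a ∈ N π D) : T e a ∈ A π D e := by
  have h := inv_mem (conj_self_mem c he (v := a) (ker_of_mem_N ha))
  rw [mul_inv_rev, inv_inv, mul_inv_rev, mul_inv_rev, inv_inv, c.cls.toTSet.inv_eq he,
    inv_N c ha] at h
  simpa [T, mul_assoc] using h

theorem T_mem_N (c : Ctx π D) {e a : G} (he : e ∈ D) (ha : a ∈ N π D) : T e a ∈ N π D :=
  A_le_N he (T_mem c he ha)

theorem T_one (c : Ctx π D) {e : G} (he : e ∈ D) : T e 1 = 1 := by simp [T, c.cls.sq e he]

theorem T_mul (c : Ctx π D) {e a b : G} (he : e ∈ D) (ha : a ∈ N π D) (hb : b ∈ N π D) :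
    T e (a * b) = T e a * T e b := by
  have h := (commute_N c hb (conj_e_mem c he ha)).eq
  calc T e (a * b) = a * (b * (e * a * e)) * (e * b * e) := by
        simp only [T, mul_assoc, invol_cancel (c.cls.sq e he)]
    _ = a * ((e * a * e) * b) * (e * b * e) := by rw [h]
    _ = T e a * T e b := by simp only [T, mul_assoc]

/-- Conjugation by a member in terms of `T`. -/
theorem conj_eq_mul_T (c : Ctx π D) {e a : G} (ha : a ∈ N π D) : e * a * e = a * T e a := by
  simp only [T, ← mul_assoc, sq_N c ha, one_mul]

theorem T_eq_one (c : Ctx π D) {d e a : G} (hd : d ∈ D) (he : e ∈ D) (hde : Commute d e)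
    (ha : a ∈ A π D d) : T e a = 1 := by
  have h := (commute_A c hd he hde ha).eq
  calc a * e * a * e = e * a * a * e := by rw [h]
    _ = e * (a * a) * e := by simp only [mul_assoc]
    _ = 1 := by rw [sq_N c (A_le_N hd ha), mul_one, c.cls.sq e he]

theorem T_inj (c : Ctx π D) {d e a : G} (hd : d ∈ D) (he : e ∈ D) (hde : ¬Commute d e)
    (ha : a ∈ A π D d) (h : T e a = 1) : a = 1 := by
  have hc : Commute a e := by
    have h1 := conj_eq_mul_T c (e := e) (A_le_N hd ha)
    rw [h, mul_one] at h1
    change a * e = e * a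
    conv_lhs => rw [← h1]
    rw [mul_assoc _ e e, c.cls.sq e he, mul_one]
  refine eq_one_of_commute c hd he hde ha fun f hf hfe => ?_
  have hy : e⁻¹ * f ∈ diff π D e := ⟨by simp [hfe], by rwa [mul_inv_cancel_left]⟩
  have := hc.mul_right (commute_N c (A_le_N hd ha) (Subgroup.subset_closure (Set.mem_biUnion he hy)))
  rwa [mul_inv_cancel_left] at this

/-- The two maps between non-commuting members are inverse to each other. -/
theorem T_T (c : Ctx π D) {d e a : G} (hd : d ∈ D) (he : e ∈ D) (hde : ¬Commute d e)
    (ha : a ∈ A π D d) : T d (T e a) = a := by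
  have haN := A_le_N hd ha
  set x := T e a with hx
  have hxN := T_mem_N c he haN
  set b := T d x with hb
  have hbA : b ∈ A π D d := T_mem c hd hxN
  have hbN := A_le_N hd hbA
  have dd := invol_cancel (c.cls.sq d hd)
  have ee := invol_cancel (c.cls.sq e he)
  -- conjugation by `d e d = e d e`, both ways
  have l1 : d * (e * (d * a * d) * e) * d = a * (x * b) := by
    rw [invol_conj_eq_of_commute (c.cls.sq d hd) (commute_A c hd hd (Commute.refl d) ha),
      conj_eq_mul_T c haN, ← hx,
      show d * (a * x) * d = d * a * d * (d * x * d) by simp only [mul_assoc, dd],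
      invol_conj_eq_of_commute (c.cls.sq d hd) (commute_A c hd hd (Commute.refl d) ha),
      conj_eq_mul_T c hxN, ← hb]
  have l2 : e * (d * (e * a * e) * d) * e = a * x * (x * (b * T e b)) := by
    rw [conj_eq_mul_T c haN, ← hx,
      show d * (a * x) * d = d * a * d * (d * x * d) by simp only [mul_assoc, dd],
      invol_conj_eq_of_commute (c.cls.sq d hd) (commute_A c hd hd (Commute.refl d) ha),
      conj_eq_mul_T c hxN, ← hb,
      show e * (a * (x * b)) * e = e * a * e * (e * x * e * (e * b * e)) by
        simp only [mul_assoc, ee],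
      conj_eq_mul_T c haN, ← hx, conj_eq_mul_T c hbN,
      invol_conj_eq_of_commute (c.cls.sq e he)
        (commute_A c he he (Commute.refl e) (T_mem c he haN))]
  have br := c.cls.toTSet.braid hd he hde
  have e1 : d * (e * (d * a * d) * e) * d = e * (d * (e * a * e) * d) * e := by
    have : d * e * d * a * (d * e * d) = e * d * e * a * (e * d * e) := by rw [br]
    simpa only [mul_assoc] using this
  rw [l1, l2] at e1
  -- now `x b = b T e b`
  have e2 : x * b = b * T e b := by
    have h := mul_left_cancel (e1.trans (mul_assoc a x _))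
    rwa [← mul_assoc x x, sq_N c hxN, one_mul] at h
  have e3 : x = T e b := by
    rw [(commute_N c hxN hbN).eq] at e2
    exact mul_left_cancel e2
  have : a * b = 1 := T_inj c hd he hde (mul_mem ha hbA) (by
    rw [T_mul c he haN hbN, ← hx, ← e3, sq_N c hxN])
  exact (mul_left_cancel (this.trans (sq_N c haN).symm))

/-- The operator of the third point. -/
theorem T_third (c : Ctx π D) {e f a : G} (he : e ∈ D) (hf : f ∈ D) (hef : ¬Commute e f)
    (ha : a ∈ N π D) :
    T (f * e * f) a = T e a * T f (T e a) * T e (T f a) * T f a := by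
  set E := T e a with hE
  set F := T f a with hF
  have hEN : E ∈ N π D := T_mem_N c he ha
  have hFN : F ∈ N π D := T_mem_N c hf ha
  have ff := invol_cancel (c.cls.sq f hf)
  have ee := invol_cancel (c.cls.sq e he)
  have hEFN := T_mem_N c he hFN
  have hFEN := T_mem_N c hf hEN
  have hFEF : T f (T e F) = F :=
    T_T c hf he (fun h => hef h.symm) (T_mem c hf ha)
  have fF : f * F * f = F := invol_conj_eq_of_commute (c.cls.sq f hf)
    (commute_A c hf hf (Commute.refl f) (T_mem c hf ha))
  have l : f * (e * (f * a * f) * e) * f = a * F * (E * T f E) * (F * (T e F * F)) := by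
    rw [conj_eq_mul_T c ha, ← hF,
      show e * (a * F) * e = e * a * e * (e * F * e) by simp only [mul_assoc, ee],
      conj_eq_mul_T c ha, ← hE, conj_eq_mul_T c hFN,
      show f * (a * E * (F * T e F)) * f = f * a * f * (f * E * f) * (f * F * f * (f * T e F * f)) by
        simp only [mul_assoc, ff],
      conj_eq_mul_T c ha, ← hF, conj_eq_mul_T c hEN, fF, conj_eq_mul_T c hEFN, hFEF]
  have step : T (f * e * f) a = a * (f * (e * (f * a * f) * e) * f) := by
    simp only [T, mul_assoc]
  rw [step, l]
  calc a * (a * F * (E * T f E) * (F * (T e F * F)))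
      = (a * a) * (F * (E * T f E) * F) * (T e F * F) := by simp only [mul_assoc]
    _ = E * T f E * (T e F * F) := by
        rw [sq_N c ha, one_mul, (commute_N c hFN (mul_mem hEN hFEN)).eq, mul_assoc (E * T f E) F F,
          sq_N c hFN, mul_one]
    _ = E * T f E * T e F * F := by simp only [mul_assoc]

end Cfsg.Agent.Transpos.OTwo
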