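import Cfsg.Agent.Lib.Transpos.OTwo.Geo

/-!
# Generating certificates for `SU_5(2)` and `SU_7(2)`
-/

set_option autoImplicit false
set_option maxRecDepth 20000
set_option maxHeartbeats 2000000

namespace Cfsg.Agent.Transpos.OTwo

open Cfsg.Agent.Transpos.SU32

def uFive : Fin (1 + 4) → Fin (1 + 4) → K4 :=
  ![![1, v, v, 0, 1],
    ![1, v, w, 0, w],
    ![0, v, 1, w, 1],
    ![v, w, 0, w, w],
    ![1, v, 0, 0, 0]]

def certFive : Cert 1 where
  u := uFive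
  inv := Matrix.of ![![1, 1, 1, 1, w],
    ![w, w, w, w, 1],
    ![v, w, 0, 0, 1],
    ![v, 1, 0, v, 0],
    ![v, 1, 0, 0, w]]
  par := ![0, 0, 1, 1, 2]
  shared := true
  hinv := by decide +kernel
  par1 := rfl
  par2 := rfl
  par3 := by decide
  par_lt := by decide
  iso := by decide +kernel
  gram := by decide +kernel
  tree_ne := by decide +kernel
  tri_ne := by decide +kernel
  sh := by decide +kernel

def seedsFive : List (Fin (1 + 4) → K4) :=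
  [![1, 1, 0, 0, 0],
    ![1, w, 0, 0, 0],
    ![1, v, 0, 0, 0],
    ![0, 1, 1, 0, 0],
    ![0, 1, w, 0, 0],
    ![0, 1, v, 0, 0],
    ![0, 0, 1, 1, 0],
    ![0, 0, 1, w, 0],
    ![0, 0, 1, v, 0],
    ![0, 0, 0, 1, 1],
    ![0, 0, 0, 1, w],
    ![0, 0, 0, 1, v],
    ![1, 1, 1, w, 0]]

def stepsFive : List (Fin (1 + 4) × ℕ) :=
  [(2, 1), (3, 5), (0, 6), (4, 7), (1, 0), (2, 9), (3, 10), (1, 11),
    (0, 5), (3, 13), (4, 14), (2, 15), (1, 16), (0, 17), (2, 0), (3, 19),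
    (1, 20), (0, 21), (4, 22), (3, 0), (1, 24), (2, 25), (0, 26), (1, 27),
    (4, 28), (2, 29), (1, 30), (0, 16), (1, 32), (2, 33), (3, 34), (1, 35),
    (1, 19), (3, 37), (1, 38), (4, 39), (2, 40), (1, 41), (0, 42), (2, 43),
    (0, 38), (1, 45), (4, 46), (2, 47), (4, 38), (2, 49), (1, 50), (0, 51),
    (2, 52), (3, 53), (0, 30), (1, 55), (2, 23), (0, 57)]

def idxFive : List (ℕ × K4) :=
  [(8, v), (7, w), (4, 1), (12, 1), (18, v), (23, v), (31, 1), (36, 1), (44, w), (48, v), (54, 1), (56, 1), (58, v)]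

theorem seedsFive_eq : seedsFive = idxFive.map fun p => p.2 • (derive certFive.u stepsFive).getD p.1 (certFive.u 0) := by
  decide +kernel

theorem idxFive_ne : ∀ p ∈ idxFive, p.2 ≠ 0 := by decide +kernel

def uSeven : Fin (3 + 4) → Fin (3 + 4) → K4 :=
  ![![0, 0, 1, 0, 1, 0, 0],
    ![0, 0, v, 0, w, 0, 0],
    ![0, 0, 0, 0, w, 0, w],
    ![v, 0, 0, 0, 0, 0, w],
    ![v, v, 0, 0, 0, 1, w],
    ![0, v, 0, 1, 0, 0, 0],
    ![v, 0, 0, 0, 0, 1, 0]]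

def certSeven : Cert 3 where
  u := uSeven
  inv := Matrix.of ![![w, v, w, w, 0, 0, 0],
    ![w, v, w, 0, w, 0, w],
    ![w, 1, 0, 0, 0, 0, 0],
    ![1, w, 1, 0, 1, 1, 1],
    ![v, 1, 0, 0, 0, 0, 0],
    ![1, w, 1, 1, 0, 0, 1],
    ![v, 1, v, 0, 0, 0, 0]]
  par := ![0, 0, 1, 2, 2, 4, 3]
  shared := false
  hinv := by decide +kernel
  par1 := rfl
  par2 := rfl
  par3 := by decide
  par_lt := by decide
  iso := by decide +kernel
  gram := by decide +kernel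
  tree_ne := by decide +kernel
  tri_ne := by decide +kernel
  sh := by decide +kernel

def seedsSeven : List (Fin (3 + 4) → K4) :=
  [![1, 1, 0, 0, 0, 0, 0],
    ![1, w, 0, 0, 0, 0, 0],
    ![1, v, 0, 0, 0, 0, 0],
    ![0, 1, 1, 0, 0, 0, 0],
    ![0, 1, w, 0, 0, 0, 0],
    ![0, 1, v, 0, 0, 0, 0],
    ![0, 0, 1, 1, 0, 0, 0],
    ![0, 0, 1, w, 0, 0, 0],
    ![0, 0, 1, v, 0, 0, 0],
    ![0, 0, 0, 1, 1, 0, 0],
    ![0, 0, 0, 1, w, 0, 0],
    ![0, 0, 0, 1, v, 0, 0],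
    ![0, 0, 0, 0, 1, 1, 0],
    ![0, 0, 0, 0, 1, w, 0],
    ![0, 0, 0, 0, 1, v, 0],
    ![0, 0, 0, 0, 0, 1, 1],
    ![0, 0, 0, 0, 0, 1, w],
    ![0, 0, 0, 0, 0, 1, v],
    ![1, 1, 1, w, 0, 0, 0]]

def stepsSeven : List (Fin (3 + 4) × ℕ) :=
  [(2, 0), (1, 7), (3, 8), (2, 9), (4, 10), (6, 11), (3, 12), (2, 13),
    (1, 14), (0, 15), (2, 16), (3, 17), (4, 18), (2, 19), (0, 20), (1, 21),
    (2, 22), (3, 23), (2, 1), (0, 25), (3, 26), (2, 27), (4, 28), (6, 29),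
    (3, 30), (2, 31), (0, 32), (1, 33), (2, 34), (4, 35), (4, 17), (1, 20),
    (3, 35), (4, 39), (2, 40), (1, 41), (5, 38), (5, 21), (5, 42), (5, 41),
    (5, 22), (5, 20), (6, 9), (6, 27), (3, 2), (6, 51), (6, 10), (6, 3),
    (6, 28), (4, 8), (2, 56), (3, 57), (5, 58), (4, 59), (2, 60), (1, 61),
    (0, 62), (2, 63), (3, 64), (4, 65), (2, 66), (0, 67)]

def idxSeven : List (ℕ × K4) :=
  [(24, v), (36, v), (37, w), (21, v), (38, v), (42, w), (43, w), (44, v), (45, v), (46, 1), (47, w), (48, w), (49, w), (50, w), (52, v), (53, w), (54, 1), (55, 1), (68, v)]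

theorem seedsSeven_eq : seedsSeven = idxSeven.map fun p => p.2 • (derive certSeven.u stepsSeven).getD p.1 (certSeven.u 0) := by
  decide +kernel

theorem idxSeven_ne : ∀ p ∈ idxSeven, p.2 ≠ 0 := by decide +kernel

end Cfsg.Agent.Transpos.OTwo
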