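import Cfsg.Agent.Lib.Transpos.OTwo.Main

/-!
# The fixed-point-free elements of order three of `SU_5(2)`

`sig e` is `x ↦ ω x + h(x,e) e` for `h(e,e) = 1`.
-/

set_option autoImplicit false

namespace Cfsg.Agent.Transpos.OTwo

open Cfsg.Agent.Transpos.SU32
open scoped Matrix

/-- `g` is the element attached to `e`. -/
def IsSig (g : ↥(Cfsg.SU 5 K4 2)) (e : Fin 5 → K4) : Prop :=
  ∀ x : Fin 5 → K4, g.1.1 *ᵥ x = w • x + Cfsg.hermForm 5 K4 2 x e • e

theorem k4_facts : w * w + w + 1 = 0 ∧ (1 : K4) + 1 = 0 ∧ (∀ a : K4, a + a = 0) ∧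
    (∀ a : K4, (a ^ 2) ^ 2 = a) ∧ w ^ 2 * w = 1 := by
  refine ⟨rfl, rfl, fun a => ?_, fun a => ?_, rfl⟩ <;>
    rcases a with ⟨_ | _, _ | _⟩ <;> rfl

theorem k4_vec_add {x : Fin 5 → K4} : x + x = 0 := funext fun i => k4_facts.2.2.1 (x i)

theorem herm5_sq (a b : Fin 5 → K4) :
    Cfsg.hermForm 5 K4 2 a b ^ 2 = Cfsg.hermForm 5 K4 2 b a := by
  haveI : CharP K4 2 := CharTwo.of_one_ne_zero_of_two_eq_zero one_ne_zero (by decide)
  unfold Cfsg.hermForm
  rw [sum_pow_char]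
  exact Finset.sum_congr rfl fun i _ => by rw [mul_pow, k4_facts.2.2.2.1, mul_comm]

theorem herm5_add_right (a b c : Fin 5 → K4) :
    Cfsg.hermForm 5 K4 2 a (b + c) = Cfsg.hermForm 5 K4 2 a b + Cfsg.hermForm 5 K4 2 a c := by
  haveI : CharP K4 2 := CharTwo.of_one_ne_zero_of_two_eq_zero one_ne_zero (by decide)
  simp [Cfsg.hermForm, add_pow_char, mul_add, Finset.sum_add_distrib]

theorem herm5_smul_right (m : K4) (a c : Fin 5 → K4) :
    Cfsg.hermForm 5 K4 2 a (m • c) = m ^ 2 * Cfsg.hermForm 5 K4 2 a c := by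
  simp [Cfsg.hermForm, Finset.mul_sum, mul_pow, mul_left_comm]

theorem exists_isSig {e : Fin 5 → K4} (he : Cfsg.hermForm 5 K4 2 e e = 1) :
    ∃ g, IsSig g e := by
  classical
  set f : Fin 5 → K4 := fun i => (e i) ^ 2 with hf
  let M : Matrix (Fin 5) (Fin 5) K4 :=
    w • (1 + Matrix.replicateCol Unit e * Matrix.replicateRow Unit (w ^ 2 • f))
  have hM : ∀ x, M *ᵥ x = w • x + Cfsg.hermForm 5 K4 2 x e • e := fun x => by
    have hr : Matrix.replicateRow Unit (w ^ 2 • f) *ᵥ x = fun _ => w ^ 2 * Cfsg.hermForm 5 K4 2 x e := by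
      funext i
      simp [Matrix.mulVec, dotProduct, Cfsg.hermForm, Finset.mul_sum, hf]; exact Finset.sum_congr rfl fun _ _ => by ring
    rw [Matrix.smul_mulVec, Matrix.add_mulVec, Matrix.one_mulVec, ← Matrix.mulVec_mulVec, hr,
      smul_add]
    congr 1
    funext i
    simp only [Pi.smul_apply, smul_eq_mul, Matrix.mulVec, dotProduct, Matrix.replicateCol_apply,
      Finset.univ_unique, Finset.sum_singleton]
    linear_combination (Cfsg.hermForm 5 K4 2 x e * e i) * k4_facts.2.2.2.2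
  have hdet : M.det = 1 := by
    rw [Matrix.det_smul, Matrix.det_one_add_replicateCol_mul_replicateRow, Fintype.card_fin]
    have : (w ^ 2 • f) ⬝ᵥ e = w ^ 2 * Cfsg.hermForm 5 K4 2 e e := by
      simp [dotProduct, Cfsg.hermForm, Finset.mul_sum, hf]; exact Finset.sum_congr rfl fun _ _ => by ring
    rw [this, he]
    rfl
  have hpres : ∀ u x, Cfsg.hermForm 5 K4 2 (M *ᵥ u) (M *ᵥ x) = Cfsg.hermForm 5 K4 2 u x := by
    intro u x
    rw [hM, hM, herm_add, herm5_add_right, herm5_add_right, herm_smul, herm_smul, herm_smul, herm_smul,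
      herm5_smul_right, herm5_smul_right, herm5_smul_right, herm5_smul_right, he, herm5_sq x e]
    obtain ⟨h1, -, h3, -, h5⟩ := k4_facts
    linear_combination (Cfsg.hermForm 5 K4 2 u x) * h5 +
      (Cfsg.hermForm 5 K4 2 u e * Cfsg.hermForm 5 K4 2 e x) * h1
  exact ⟨⟨⟨M, hdet⟩, hpres⟩, hM⟩

theorem IsSig.ext {g g' : ↥(Cfsg.SU 5 K4 2)} {e : Fin 5 → K4} (h : IsSig g e) (h' : IsSig g' e) :
    g = g' :=
  Subtype.ext (Subtype.ext (Matrix.ext_of_mulVec_single fun _ => (h _).trans (h' _).symm))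

theorem IsSig.conj {g a : ↥(Cfsg.SU 5 K4 2)} {e : Fin 5 → K4} (h : IsSig g e) :
    IsSig (a * g * a⁻¹) (a.1.1 *ᵥ e) := fun x => by
  have hinv : a.1.1 *ᵥ ((a⁻¹).1.1 *ᵥ x) = x := by
    rw [Matrix.mulVec_mulVec, ← Matrix.SpecialLinearGroup.coe_mul, ← Subgroup.coe_mul,
      mul_inv_cancel, Subgroup.coe_one, Matrix.SpecialLinearGroup.coe_one, Matrix.one_mulVec]
  have hpres := a.2 ((a⁻¹).1.1 *ᵥ x) e
  change Cfsg.hermForm 5 K4 2 (a.1.1 *ᵥ ((a⁻¹).1.1 *ᵥ x)) (a.1.1 *ᵥ e) = _ at hpres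
  rw [hinv] at hpres
  simp only [Subgroup.coe_mul, Matrix.SpecialLinearGroup.coe_mul, ← Matrix.mulVec_mulVec]
  rw [h, Matrix.mulVec_add, Matrix.mulVec_smul, Matrix.mulVec_smul, hinv, hpres]

theorem IsSig.commute {g g' : ↥(Cfsg.SU 5 K4 2)} {e e' : Fin 5 → K4} (h : IsSig g e)
    (h' : IsSig g' e') (hee : Cfsg.hermForm 5 K4 2 e e' = 0) : Commute g g' := by
  refine Subtype.ext (Subtype.ext (Matrix.ext_of_mulVec_single fun i => ?_))
  simp only [Subgroup.coe_mul, Matrix.SpecialLinearGroup.coe_mul, ← Matrix.mulVec_mulVec, h' _,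
    h _, herm_add, herm_smul, hee, herm_swap_eq_zero hee, smul_add, smul_smul, mul_zero, zero_smul,
    add_zero]
  abel

theorem IsSig.commute_tv {g t : ↥(Cfsg.SU 5 K4 2)} {e q : Fin 5 → K4} (h : IsSig g e)
    (ht : IsTv t q) (hqe : Cfsg.hermForm 5 K4 2 q e = 0) : Commute g t := by
  refine Subtype.ext (Subtype.ext (Matrix.ext_of_mulVec_single fun i => ?_))
  simp only [Subgroup.coe_mul, Matrix.SpecialLinearGroup.coe_mul, ← Matrix.mulVec_mulVec, ht _,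
    h _, herm_add, herm_smul, hqe, herm_swap_eq_zero hqe, smul_add, smul_smul, mul_zero, zero_smul,
    add_zero]
  abel

theorem IsSig.quad {g : ↥(Cfsg.SU 5 K4 2)} {e : Fin 5 → K4} (h : IsSig g e)
    (he : Cfsg.hermForm 5 K4 2 e e = 1) (x : Fin 5 → K4) :
    g.1.1 *ᵥ (g.1.1 *ᵥ x) + g.1.1 *ᵥ x + x = 0 := by
  rw [h (g.1.1 *ᵥ x), h x, herm_add, herm_smul, herm_smul, he]
  obtain ⟨h1, h2, -⟩ := k4_facts
  funext i
  simp only [Pi.add_apply, Pi.smul_apply, smul_eq_mul, Pi.zero_apply]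
  linear_combination (x i) * h1 + (w * Cfsg.hermForm 5 K4 2 x e * e i +
    Cfsg.hermForm 5 K4 2 x e * e i) * h2

theorem IsSig.cube {g : ↥(Cfsg.SU 5 K4 2)} {e : Fin 5 → K4} (h : IsSig g e)
    (he : Cfsg.hermForm 5 K4 2 e e = 1) : g ^ 3 = 1 := by
  refine Subtype.ext (Subtype.ext (Matrix.ext_of_mulVec_single fun i => ?_))
  set x : Fin 5 → K4 := Pi.single i 1
  have h1 := h.quad he (g.1.1 *ᵥ x)
  have h2 := h.quad he x
  rw [pow_succ, pow_two]
  simp only [Subgroup.coe_mul, Matrix.SpecialLinearGroup.coe_mul, ← Matrix.mulVec_mulVec,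
    Subgroup.coe_one, Matrix.SpecialLinearGroup.coe_one, Matrix.one_mulVec]
  obtain ⟨-, h4, -⟩ := k4_facts
  funext j
  have e1 := congrFun h1 j
  have e2 := congrFun h2 j
  simp only [Pi.add_apply, Pi.zero_apply] at e1 e2
  linear_combination e1 + e2 - (g.1.1 *ᵥ (g.1.1 *ᵥ x)) j * h4 - (g.1.1 *ᵥ x) j * h4 - x j * h4

end Cfsg.Agent.Transpos.OTwo
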