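import Cfsg.Agent.Lib.Transpos.OTwo.Geo
import Cfsg.Agent.Lib.Transpos.OTwo.Sigma
import Mathlib.GroupTheory.Complement

/-!
# A complement in the case of `SU_5(2)`

The elements `sig e` act without fixed points on the kernel, so each has, over a chosen lift at one
point, exactly one lift commuting with the lifts at the orthogonal points; the stabiliser of this
system of lifts is a complement.
-/

set_option autoImplicit false

namespace Cfsg.Agent.Transpos.OTwo

open Cfsg.Agent.Transpos.SU32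
open scoped Matrix

local notation "hh5" => Cfsg.hermForm 5 K4 2

/-- The orthogonality facts about the vectors of norm one. -/
structure Graph5 : Prop where
  mid : ∀ e q : Fin 5 → K4, hh5 e e = 1 → hh5 q q = 1 →
    ∃ m : Fin 5 → K4, hh5 m m = 1 ∧ hh5 m e = 0 ∧ hh5 m q = 0
  square : ∀ e q m m' : Fin 5 → K4, hh5 e e = 1 → hh5 q q = 1 → hh5 m m = 1 → hh5 m' m' = 1 →
    hh5 e q ≠ 0 → hh5 m e = 0 → hh5 m q = 0 → hh5 m' e = 0 → hh5 m' q = 0 → hh5 m m' ≠ 0 →
    ∃ k : Fin 5 → K4, hh5 k k = 1 ∧ hh5 k e = 0 ∧ hh5 k q = 0 ∧ hh5 k m = 0 ∧ hh5 k m' = 0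
  triple : ∀ e q q' : Fin 5 → K4, hh5 e e = 1 → hh5 q q = 1 → hh5 q' q' = 1 →
    hh5 e q ≠ 0 → hh5 e q' ≠ 0 → hh5 q q' = 0 →
    ∃ m : Fin 5 → K4, hh5 m m = 1 ∧ hh5 m e = 0 ∧ hh5 m q = 0 ∧ hh5 m q' = 0
  perp : ∀ q : Fin 5 → K4, hh5 q q = 0 → ∃ m : Fin 5 → K4, hh5 m m = 1 ∧ hh5 q m = 0

variable {G : Type*} [Group G] [Finite G] {π : G →* ↥(Cfsg.SU (1 + 4) K4 2)} {D : Set G}
  {C : Cert 1} {d : Fin (1 + 4) → G}

/-- `s` is a lift of order three of the element at `e`. -/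
def IsLift (π : G →* ↥(Cfsg.SU (1 + 4) K4 2)) (s : G) (e : Fin 5 → K4) : Prop :=
  IsSig (π s) e ∧ s ^ 3 = 1

theorem IsLift.conj {s : G} {e : Fin 5 → K4} (h : IsLift π s e) (g : G) :
    IsLift π (g * s * g⁻¹) ((π g).1.1 *ᵥ e) := by
  refine ⟨?_, by rw [conj_pow, h.2, mul_one, mul_inv_cancel]⟩
  rw [map_mul, map_mul, map_inv]
  exact h.1.conj

theorem norm_map (g : G) {e : Fin 5 → K4} : hh5 ((π g).1.1 *ᵥ e) ((π g).1.1 *ᵥ e) = hh5 e e :=
  (π g).2 e e

theorem exists_complement_five (S : Setup π D C d) (hπ : Function.Surjective π) (gr : Graph5)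
    (tv1 : ∀ f ∈ D, ∃ u, u ≠ 0 ∧ Cfsg.hermForm (1 + 4) K4 2 u u = 0 ∧ IsTv (π f) u) :
    ∃ K : Subgroup G, π.ker.IsComplement' K := by
  classical
  have c := S.ctx
  obtain ⟨hVN, hfp⟩ := core S
  obtain ⟨hab, hsq⟩ := elementary S
  have hkerN : ∀ x ∈ N π D, π x = 1 := fun x hx => ker_of_mem_N hx
  -- the kernel is central modulo `N`
  haveI := N_normal c
  have hmod : ∀ v g, π v = 1 → g * v * g⁻¹ * v⁻¹ ∈ N π D := by
    intro v g hv
    have hg : g ∈ Subgroup.closure D := by rw [c.cls.gen]; trivial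
    let q := QuotientGroup.mk' (N π D)
    have hle : Subgroup.closure D ≤ (Subgroup.centralizer {q v}).comap q :=
      (Subgroup.closure_le _).2 fun f hf => by
        refine Subgroup.mem_centralizer_singleton_iff.2 ?_
        have h1 : q (f⁻¹ * (v * f * v⁻¹)) = 1 :=
          (QuotientGroup.eq_one_iff _).2 (A_le_N hf (conj_self_mem c hf hv))
        rw [map_mul, map_inv, inv_mul_eq_one, map_mul, map_mul, map_inv, eq_mul_inv_iff_mul_eq] at h1
        exact h1
    have h1 := Subgroup.mem_centralizer_singleton_iff.1 (hle hg)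
    apply (QuotientGroup.eq_one_iff _).1
    change q (g * v * g⁻¹ * v⁻¹) = 1
    rw [map_mul, map_mul, map_mul, map_inv, map_inv, h1, mul_inv_cancel_right, mul_inv_cancel]
  have hlift : ∀ g e, IsSig (π g) e → hh5 e e = 1 → IsLift π (g ^ 4) e := by
    intro g e hg he
    have h3 : π (g ^ 3) = 1 := by rw [map_pow, hg.cube he]
    refine ⟨?_, ?_⟩
    · rw [pow_succ, map_mul, h3, one_mul]; exact hg
    · rw [← pow_mul, show 4 * 3 = 3 * 2 * 2 by rfl, pow_mul, pow_mul, pow_two (g ^ 3), hsq _ h3,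
        one_pow]
  have hC0 : ∀ s e, IsLift π s e → hh5 e e = 1 → ∀ n ∈ N π D, Commute s n → n = 1 :=
    fun s e hs he => hfp s fun x => hs.1.quad he x
  -- differences of lifts at the same point lie in `N`
  have hdiff : ∀ s t e, IsLift π s e → IsLift π t e → s⁻¹ * t ∈ N π D := by
    intro s t e hs ht
    have hy : π (s⁻¹ * t) = 1 := by rw [map_mul, map_inv, hs.1.ext ht.1, inv_mul_cancel]
    let q := QuotientGroup.mk' (N π D)
    have hcomm : Commute (q s) (q (s⁻¹ * t)) := by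
      have h1 : q (s * (s⁻¹ * t) * s⁻¹ * (s⁻¹ * t)⁻¹) = 1 :=
        (QuotientGroup.eq_one_iff _).2 (hmod _ s hy)
      rw [map_mul, map_mul, map_mul, map_inv, map_inv, mul_inv_eq_one, mul_inv_eq_iff_eq_mul] at h1
      exact h1
    have h3 : q (s⁻¹ * t) ^ 3 = 1 := by
      have := hcomm.mul_pow 3
      rwa [← map_mul, mul_inv_cancel_left, ← map_pow, ht.2, map_one, ← map_pow q s, hs.2, map_one,
        one_mul, eq_comm] at this
    have h2 : q (s⁻¹ * t) ^ 2 = 1 := by rw [← map_pow, pow_two, hsq _ hy, map_one]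
    rw [pow_succ, h2, one_mul] at h3
    exact (QuotientGroup.eq_one_iff _).1 h3
  -- lifts at one point are conjugate under the kernel
  have hconjN : ∀ s t e, IsLift π s e → IsLift π t e → hh5 e e = 1 →
      ∃ u ∈ N π D, u * s * u⁻¹ = t := by
    intro s t e hs ht he
    let ψ : ↥(N π D) → ↥(N π D) := fun u =>
      ⟨s⁻¹ * u.1 * s * u.1⁻¹, mul_mem (by simpa using (N_normal c).conj_mem _ u.2 s⁻¹) (inv_mem u.2)⟩
    have hinj : Function.Injective ψ := by
      intro a b h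
      have h' : s⁻¹ * a.1 * s * a.1⁻¹ = s⁻¹ * b.1 * s * b.1⁻¹ := congrArg Subtype.val h
      refine Subtype.ext (inv_mul_eq_one.1 (hC0 s e hs he _ (mul_mem (inv_mem b.2) a.2) ?_)).symm
      have hn : s⁻¹ * b.1⁻¹ * s ∈ N π D := by simpa using (N_normal c).conj_mem _ (inv_mem b.2) s⁻¹
      have h1 : s⁻¹ * (b.1⁻¹ * a.1) * s = b.1⁻¹ * a.1 := by
        calc s⁻¹ * (b.1⁻¹ * a.1) * s
            = (s⁻¹ * b.1⁻¹ * s) * ((s⁻¹ * a.1 * s * a.1⁻¹) * a.1) := by simp [mul_assoc]
          _ = (s⁻¹ * b.1⁻¹ * s) * ((s⁻¹ * b.1 * s * b.1⁻¹) * a.1) := by rw [h']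
          _ = b.1⁻¹ * a.1 := by simp [mul_assoc]
      change s * (b.1⁻¹ * a.1) = b.1⁻¹ * a.1 * s
      conv_lhs => rw [← h1]
      simp [mul_assoc]
    obtain ⟨u, hu⟩ := (Finite.injective_iff_surjective.1 hinj) ⟨_, hdiff s t e hs ht⟩
    refine ⟨u.1, u.2, ?_⟩
    have hu' : s⁻¹ * u.1 * s * u.1⁻¹ = s⁻¹ * t := congrArg Subtype.val hu
    have := congrArg (s * ·) hu'
    simpa [mul_assoc] using this
  -- elements whose image commutes with that of a lift can be corrected
  have hcorr : ∀ s e g, IsLift π s e → hh5 e e = 1 → Commute (π g) (π s) →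
      ∃ u ∈ N π D, Commute (u * g) s := by
    intro s e g hs he hgs
    have ht : IsLift π (g * s * g⁻¹) e :=
      ⟨by rw [map_mul, map_mul, map_inv, hgs.eq, mul_inv_cancel_right]; exact hs.1,
        by rw [conj_pow, hs.2, mul_one, mul_inv_cancel]⟩
    obtain ⟨u, hu, hus⟩ := hconjN _ _ e ht hs he
    refine ⟨u, hu, ?_⟩
    change u * g * s = s * (u * g)
    conv_rhs => rw [← hus]
    simp [mul_assoc]
  have hnext : ∀ s e e', IsLift π s e → hh5 e e = 1 → hh5 e' e' = 1 → hh5 e e' = 0 →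
      ∃ t, IsLift π t e' ∧ Commute t s := by
    intro s e e' hs he he' hee
    obtain ⟨g', hg'⟩ := exists_isSig he'
    obtain ⟨g, rfl⟩ := hπ g'
    obtain ⟨u, hu, hus⟩ := hcorr s e g hs he (hg'.commute hs.1 (herm_swap_eq_zero hee))
    exact ⟨(u * g) ^ 4, hlift _ e' (by rw [map_mul, hkerN u hu, one_mul]; exact hg') he', hus.pow_left 4⟩
  -- a kernel element fixed by one lift centralises the members over its perp
  have hperp : ∀ s e x, IsLift π s e → hh5 e e = 1 → π x = 1 → Commute s x →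
      ∀ f ∈ D, ∀ q, IsTv (π f) q → hh5 q e = 0 → Commute x f := by
    intro s e x hs he hx hsx f hfD q hq hqe
    set f' := s * f * s⁻¹ with hf'
    have hf'D : f' ∈ D := c.cls.conj s f hfD
    have hff' : π f' = π f := by
      rw [hf', map_mul, map_mul, map_inv, (hs.1.commute_tv hq hqe).eq, mul_inv_cancel_right]
    have hn : f⁻¹ * f' ∈ N π D :=
      Subgroup.subset_closure (Set.mem_biUnion hfD ⟨by simp [hff'], by rwa [mul_inv_cancel_left]⟩)
    have hz : f⁻¹ * (x * f * x⁻¹) ∈ N π D := A_le_N hfD (conj_self_mem c hfD hx)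
    have h1 : s * (f⁻¹ * (x * f * x⁻¹)) * s⁻¹ = f⁻¹ * (x * f * x⁻¹) := by
      have e1 : s * (f⁻¹ * (x * f * x⁻¹)) * s⁻¹ = f'⁻¹ * (x * f' * x⁻¹) := by
        have hx' : s * x * s⁻¹ = x := by rw [hsx.eq, mul_inv_cancel_right]
        conv_rhs => rw [← hx', hf']
        simp [mul_assoc]
      rw [e1]
      calc f'⁻¹ * (x * f' * x⁻¹)
          = (f⁻¹ * f')⁻¹ * (f⁻¹ * (x * f * x⁻¹)) * (x * (f⁻¹ * f') * x⁻¹) := by simp [mul_assoc]
        _ = f⁻¹ * (x * f * x⁻¹) := by
            rw [(hVN x hx _ hn).eq, mul_inv_cancel_right, (commute_N c (inv_mem hn) hz).eq,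
              inv_mul_cancel_right]
    have h2 := hC0 s e hs he _ hz (mul_inv_eq_iff_eq_mul.1 h1)
    exact mul_inv_eq_iff_eq_mul.1 (inv_mul_eq_one.1 h2).symm
  have hfix : ∀ s e x, IsLift π s e → hh5 e e = 1 → π x = 1 → Commute s x → x = 1 := by
    intro s e x hs he hx hsx
    have step : ∀ s e e', IsLift π s e → hh5 e e = 1 → hh5 e' e' = 1 → hh5 e e' = 0 → Commute s x →
        ∃ t, IsLift π t e' ∧ Commute t x := by
      intro s e e' hs he he' hee hsx
      obtain ⟨t, ht, hts⟩ := hnext s e e' hs he he' hee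
      refine ⟨t, ht, ?_⟩
      have hm := hmod x t hx
      have h1 : Commute s (t * x * t⁻¹ * x⁻¹) :=
        ((hts.symm.mul_right hsx).mul_right hts.symm.inv_right).mul_right hsx.inv_right
      have h2 := hC0 s e hs he _ hm h1
      exact mul_inv_eq_iff_eq_mul.1 (mul_inv_eq_one.1 h2)
    have hall : ∀ f ∈ D, Commute x f := by
      intro f hfD
      obtain ⟨q, -, hq, hfq⟩ := tv1 f hfD
      obtain ⟨e', he', hqe⟩ := gr.perp q hq
      obtain ⟨m, hm, hme, hme'⟩ := gr.mid e e' he he'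
      obtain ⟨t, ht, htx⟩ := step s e m hs he hm (herm_swap_eq_zero hme) hsx
      obtain ⟨t', ht', htx'⟩ := step t m e' ht hm he' hme' htx
      exact hperp t' e' x ht' he' hx htx' f hfD q hfq hqe
    have : x ∈ Subgroup.center G := by
      rw [Subgroup.mem_center_iff]
      intro y
      have hy : y ∈ Subgroup.closure D := by rw [c.cls.gen]; trivial
      have hle : Subgroup.closure D ≤ Subgroup.centralizer {x} :=
        (Subgroup.closure_le _).2 fun f hf => Subgroup.mem_centralizer_singleton_iff.2 (hall f hf).eq.symm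
      exact Subgroup.mem_centralizer_singleton_iff.1 (hle hy)
    rwa [c.center, Subgroup.mem_bot] at this
  -- uniqueness and commutation
  have huniq : ∀ s e e' t t', IsLift π s e → hh5 e e = 1 → IsLift π t e' → IsLift π t' e' →
      Commute t s → Commute t' s → t = t' := by
    intro s e e' t t' hs he ht ht' hts ht's
    refine inv_mul_eq_one.1 (hfix s e (t⁻¹ * t') hs he ?_ (hts.symm.inv_right.mul_right ht's.symm))
    rw [map_mul, map_inv, ht.1.ext ht'.1, inv_mul_cancel]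
  have hcomm : ∀ s e a b a' b', IsLift π s e → hh5 e e = 1 → IsLift π a a' → IsLift π b b' →
      Commute a s → Commute b s → hh5 a' b' = 0 → Commute a b := by
    intro s e a b a' b' hs he ha hb has hbs hab'
    have h := ha.1.commute hb.1 hab'
    have := hfix s e (a * b * a⁻¹ * b⁻¹) hs he (by
      rw [map_mul, map_mul, map_mul, map_inv, map_inv, h.eq, mul_inv_cancel_right, mul_inv_cancel])
      (((has.symm.mul_right hbs.symm).mul_right has.symm.inv_right).mul_right hbs.symm.inv_right)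
    exact mul_inv_eq_iff_eq_mul.1 (mul_inv_eq_one.1 this)
  -- the system of lifts
  let P := {e : Fin 5 → K4 // hh5 e e = 1}
  let IsSys : (P → G) → Prop := fun L => (∀ e, IsLift π (L e) e.1) ∧
    ∀ e e' : P, hh5 e.1 e'.1 = 0 → Commute (L e) (L e')
  let e0 : P := ⟨![0, 0, 0, 0, 1], by decide +kernel⟩
  have hagree : ∀ L L', IsSys L → IsSys L' → L e0 = L' e0 → ∀ e, L e = L' e := by
    intro L L' hL hL' h0
    have near : ∀ a b : P, hh5 a.1 b.1 = 0 → L a = L' a → L b = L' b := fun a b hab' ha =>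
      huniq (L a) a.1 b.1 _ _ (hL.1 a) a.2 (hL.1 b) (hL'.1 b) (hL.2 b a (herm_swap_eq_zero hab'))
        (ha ▸ hL'.2 b a (herm_swap_eq_zero hab'))
    intro e
    obtain ⟨m, hm, hme, hme'⟩ := gr.mid e0.1 e.1 e0.2 e.2
    exact near ⟨m, hm⟩ e hme' (near e0 ⟨m, hm⟩ (herm_swap_eq_zero hme) h0)
  obtain ⟨g0, hg0⟩ := exists_isSig e0.2
  obtain ⟨g1, rfl⟩ := hπ g0
  set s0 := g1 ^ 4
  have hs0 : IsLift π s0 e0.1 := hlift g1 e0.1 hg0 e0.2
  have hcm : ∀ m : P, hh5 m.1 e0.1 = 0 → ∃ t, IsLift π t m.1 ∧ Commute t s0 := fun m hm =>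
    hnext s0 e0.1 m.1 hs0 e0.2 m.2 (herm_swap_eq_zero hm)
  choose cm hcm1 hcm2 using hcm
  have hfar : ∀ e : P, hh5 e.1 e0.1 ≠ 0 → ∃ t, IsLift π t e.1 ∧
      ∀ (m : P) (hm : hh5 m.1 e0.1 = 0), hh5 m.1 e.1 = 0 → Commute t (cm m hm) := by
    intro e he
    obtain ⟨m, hm1, hme, hmq⟩ := gr.mid e0.1 e.1 e0.2 e.2
    obtain ⟨t, ht, htm⟩ := hnext (cm ⟨m, hm1⟩ hme) m e.1 (hcm1 _ _) hm1 e.2 hmq
    refine ⟨t, ht, fun m' hm' hmq' => ?_⟩
    have adj : ∀ (a b : P) (ha : hh5 a.1 e0.1 = 0) (hb : hh5 b.1 e0.1 = 0), hh5 a.1 e.1 = 0 →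
        hh5 b.1 e.1 = 0 → hh5 a.1 b.1 = 0 → Commute t (cm a ha) → Commute t (cm b hb) :=
      fun a b ha hb _ hbe hab' h =>
        hcomm (cm a ha) a.1 t (cm b hb) e.1 b.1 (hcm1 a ha) a.2 ht (hcm1 b hb) h
          (hcomm s0 e0.1 _ _ b.1 a.1 hs0 e0.2 (hcm1 b hb) (hcm1 a ha) (hcm2 b hb) (hcm2 a ha)
            (herm_swap_eq_zero hab'))
          (herm_swap_eq_zero hbe)
    by_cases hmm : hh5 m m'.1 = 0
    · exact adj ⟨m, hm1⟩ m' hme hm' hmq hmq' hmm htm
    obtain ⟨k, hk, hke, hkq, hkm, hkm'⟩ := gr.square e0.1 e.1 m m'.1 e0.2 e.2 hm1 m'.2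
      (fun h => he (herm_swap_eq_zero h)) hme hmq hm' hmq' hmm
    exact adj ⟨k, hk⟩ m' hke hm' hkq hmq' hkm'
      (adj ⟨m, hm1⟩ ⟨k, hk⟩ hme hke hmq hkq (herm_swap_eq_zero hkm) htm)
  choose cf hcf1 hcf2 using hfar
  let L : P → G := fun e => if he : hh5 e.1 e0.1 = 0 then cm e he else cf e he
  have hL : IsSys L := by
    refine ⟨fun e => ?_, fun e e' hee => ?_⟩
    · by_cases he : hh5 e.1 e0.1 = 0
      · simp only [L, dif_pos he]; exact hcm1 e he
      · simp only [L, dif_neg he]; exact hcf1 e he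
    by_cases he : hh5 e.1 e0.1 = 0 <;> by_cases he' : hh5 e'.1 e0.1 = 0
    · simp only [L, dif_pos he, dif_pos he']
      exact hcomm s0 e0.1 _ _ e.1 e'.1 hs0 e0.2 (hcm1 e he) (hcm1 e' he') (hcm2 e he) (hcm2 e' he') hee
    · simp only [L, dif_pos he, dif_neg he']
      exact (hcf2 e' he' e he hee).symm
    · simp only [L, dif_neg he, dif_pos he']
      exact hcf2 e he e' he' (herm_swap_eq_zero hee)
    · simp only [L, dif_neg he, dif_neg he']
      obtain ⟨m, hm, hme, hmq, hmq'⟩ := gr.triple e0.1 e.1 e'.1 e0.2 e.2 e'.2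
        (fun h => he (herm_swap_eq_zero h)) (fun h => he' (herm_swap_eq_zero h)) hee
      exact hcomm (cm ⟨m, hm⟩ hme) m _ _ e.1 e'.1 (hcm1 _ hme) hm (hcf1 e he) (hcf1 e' he')
        (hcf2 e he _ hme hmq) (hcf2 e' he' _ hme hmq') hee
  let act : G → P → P := fun g e => ⟨(π g).1.1 *ᵥ e.1, (norm_map g).trans e.2⟩
  have act_one : ∀ e, act 1 e = e := fun e => Subtype.ext (by simp [act])
  have act_mul : ∀ g k e, act (g * k) e = act g (act k e) := fun g k e =>
    Subtype.ext (by simp [act, Matrix.mulVec_mulVec])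
  let K : Subgroup G :=
    { carrier := {g | ∀ e, g * L e * g⁻¹ = L (act g e)}
      one_mem' := fun e => by simp [act_one]
      mul_mem' := fun {g k} hg hk e => by
        rw [act_mul, ← hg (act k e), ← hk e]; simp [mul_assoc]
      inv_mem' := fun {g} hg e => by
        have := hg (act g⁻¹ e)
        rw [← act_mul, mul_inv_cancel, act_one] at this
        rw [← this]; simp [mul_assoc] }
  refine ⟨K, Subgroup.isComplement'_of_disjoint_and_mul_eq_univ ?_ ?_⟩
  · rw [Subgroup.disjoint_def]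
    intro x hx hxK
    have h := hxK e0
    have hact : act x e0 = e0 := Subtype.ext (by simp [act, MonoidHom.mem_ker.1 hx])
    rw [hact] at h
    exact hfix (L e0) e0.1 x (hL.1 e0) e0.2 hx (mul_inv_eq_iff_eq_mul.1 h).symm
  · rw [Set.eq_univ_iff_forall]
    intro g
    let L' : P → G := fun e => g * L (act g⁻¹ e) * g⁻¹
    have hL' : IsSys L' := by
      refine ⟨fun e => ?_, fun e e' hee => (Commute.conj_iff g).2 (hL.2 _ _ ?_)⟩
      · have := (hL.1 (act g⁻¹ e)).conj g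
        have he : (π g).1.1 *ᵥ (act g⁻¹ e).1 = e.1 := by
          change (act g (act g⁻¹ e)).1 = _
          rw [← act_mul, mul_inv_cancel, act_one]
        rwa [he] at this
      · exact ((π g⁻¹).2 e.1 e'.1).trans hee
    obtain ⟨u, hu, hus⟩ := hconjN (L e0) (L' e0) e0.1 (hL.1 e0) (hL'.1 e0) e0.2
    have huker : π u = 1 := hkerN u hu
    let L'' : P → G := fun e => u⁻¹ * L' e * u
    have hL'' : IsSys L'' := by
      refine ⟨fun e => ?_, fun e e' hee => ?_⟩
      · have := (hL'.1 e).conj u⁻¹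
        simpa [huker] using this
      · have := (Commute.conj_iff u⁻¹).2 (hL'.2 e e' hee)
        simpa using this
    have heq := hagree L L'' hL hL'' (by simp [L'', ← hus, mul_assoc])
    refine ⟨u, MonoidHom.mem_ker.2 huker, u⁻¹ * g, fun e => ?_, mul_inv_cancel_left u g⟩
    have hact : act (u⁻¹ * g) e = act g e := Subtype.ext (by simp [act, huker])
    rw [hact, heq (act g e)]
    have hback : act g⁻¹ (act g e) = e := by rw [← act_mul, inv_mul_cancel, act_one]
    simp [L'', L', hback, mul_assoc]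

end Cfsg.Agent.Transpos.OTwo
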