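import Cfsg.Agent.Lib.Transpos.OTwo.Main
import Cfsg.Agent.Lib.Transpos.SUTransvecClass
import Cfsg.Agent.Lib.PCore.Basic

/-!
# Setting up the certificate for `G / O₂(G) ≅ SU_n(2)`
-/

set_option autoImplicit false

namespace Cfsg.Agent.Transpos.OTwo

open Cfsg.Agent.Transpos.SU32
open scoped Matrix

/-- The reflection of `v` at `x`. -/
def refl {n : ℕ} (x v : Fin n → K4) : Fin n → K4 := v + Cfsg.hermForm n K4 2 v x • x

/-- Points off the perp of `p` are joined by transvections with centres in that perp. -/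
def Bridge (n : ℕ) : Prop :=
  ∀ p q s : Fin n → K4, p ≠ 0 → Cfsg.hermForm n K4 2 p p = 0 → Cfsg.hermForm n K4 2 q q = 0 →
    Cfsg.hermForm n K4 2 s s = 0 → Cfsg.hermForm n K4 2 q p ≠ 0 → Cfsg.hermForm n K4 2 s p ≠ 0 →
    ∀ S : Set (Fin n → K4), q ∈ S → (∀ m : K4, m ≠ 0 → ∀ v ∈ S, m • v ∈ S) →
      (∀ x, Cfsg.hermForm n K4 2 x x = 0 → Cfsg.hermForm n K4 2 x p = 0 → ∀ v ∈ S, refl x v ∈ S) → s ∈ S

/-- A set closed under scalars and mutual reflection that contains the seeds has all points. -/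
def Reach (n : ℕ) (seeds : List (Fin n → K4)) : Prop :=
  ∀ S : Set (Fin n → K4), (∀ m : K4, m ≠ 0 → ∀ v ∈ S, m • v ∈ S) →
    (∀ x ∈ S, ∀ v ∈ S, refl x v ∈ S) → (∀ t ∈ seeds, t ∈ S) →
    ∀ s, s ≠ 0 → Cfsg.hermForm n K4 2 s s = 0 → s ∈ S

/-- Derived points: each step reflects an earlier one at a basis vector. -/
def derive {n m : ℕ} (u : Fin m → Fin n → K4) (steps : List (Fin m × ℕ)) : List (Fin n → K4) :=
  steps.foldl (fun L p => L ++ [refl (u p.1) (L.getD p.2 (u p.1))]) (List.ofFn u)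

theorem derive_mem {n m : ℕ} (u : Fin m → Fin n → K4) (S : Set (Fin n → K4))
    (hu : ∀ k, u k ∈ S) (hS : ∀ x ∈ S, ∀ v ∈ S, refl x v ∈ S) (steps : List (Fin m × ℕ)) :
    ∀ v ∈ derive u steps, v ∈ S := by
  unfold derive
  suffices key : ∀ L : List (Fin n → K4), (∀ v ∈ L, v ∈ S) →
      ∀ v ∈ steps.foldl (fun L p => L ++ [refl (u p.1) (L.getD p.2 (u p.1))]) L, v ∈ S by
    refine key _ fun v hv => ?_
    obtain ⟨k, rfl⟩ := List.mem_ofFn.1 hv
    exact hu k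
  induction steps with
  | nil => exact fun L hL => hL
  | cons p ps ih =>
    intro L hL
    refine ih _ fun v hv => ?_
    rcases List.mem_append.1 hv with hv | hv
    · exact hL v hv
    · rw [List.mem_singleton.1 hv]
      refine hS _ (hu _) _ ?_
      rw [List.getD_eq_getElem?_getD]
      cases h : L[p.2]? with
      | none => exact hu _
      | some w => exact hL w (List.mem_of_getElem? h)

theorem IsTv.smul {n : ℕ} {x : ↥(Cfsg.SU n K4 2)} {u : Fin n → K4} (h : IsTv x u) {m : K4}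
    (hm : m ≠ 0) : IsTv x (m • u) := fun v => by
  have hh : Cfsg.hermForm n K4 2 v (m • u) = m ^ 2 * Cfsg.hermForm n K4 2 v u := by
    simp only [Cfsg.hermForm, Pi.smul_apply, smul_eq_mul, Finset.mul_sum]
    exact Finset.sum_congr rfl fun i _ => by ring
  have h3 : ∀ a : K4, a ≠ 0 → a ^ 2 * a = 1 := by
    intro a; rcases a with ⟨_ | _, _ | _⟩ <;> intro ha <;> first | exact absurd rfl ha | rfl
  rw [h v, hh, smul_smul, mul_comm (m ^ 2), mul_assoc, h3 m hm, mul_one]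

theorem IsTv.ext {n : ℕ} {x y : ↥(Cfsg.SU n K4 2)} {u : Fin n → K4} (hx : IsTv x u) (hy : IsTv y u) :
    x = y :=
  Subtype.ext (Subtype.ext (Matrix.ext_of_mulVec_single fun i => (hx _).trans (hy _).symm))

/-- The image class. -/
theorem image_class {G H : Type*} [Group G] [Group H] {π : G →* H} (hπ : Function.Surjective π)
    {D : Set G} (hD : Fischer.TClass D) (hnt : ∃ h : H, h ≠ 1) :
    Cfsg.IsThreeTranspositionClass (π '' D) := by
  have hgen : Subgroup.closure (π '' D) = ⊤ := by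
    rw [← MonoidHom.map_closure, hD.gen, Subgroup.map_top_of_surjective _ hπ]
  obtain ⟨d, hd⟩ := hD.nonempty
  have hne : ∀ a ∈ D, π a ≠ 1 := fun a ha h1 => by
    have hsub : π '' D ⊆ (⊥ : Subgroup H) := by
      rintro _ ⟨b, hb, rfl⟩
      obtain ⟨g, rfl⟩ := hD.trans a ha b hb
      simp [h1]
    have := (Subgroup.closure_le _).2 hsub
    rw [hgen, top_le_iff] at this
    obtain ⟨h, hh⟩ := hnt
    exact hh ((Subgroup.eq_bot_iff_forall _).1 rfl h (this ▸ Subgroup.mem_top h))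
  refine ⟨⟨?_, ?_⟩, ⟨π d, ⟨d, hd, rfl⟩, ?_⟩, hgen⟩
  · rintro _ ⟨a, ha, rfl⟩
    exact orderOf_eq_prime (p := 2) (by rw [pow_two, ← map_mul, hD.sq a ha, map_one]) (hne a ha)
  · rintro _ ⟨a, ha, rfl⟩ _ ⟨b, hb, rfl⟩
    exact (hD.ord a ha b hb).imp (fun h => by rw [← map_mul, ← map_pow, h, map_one])
      fun h => by rw [← map_mul, ← map_pow, h, map_one]
  · refine Set.Subset.antisymm ?_ ?_
    · rintro _ ⟨a, ha, rfl⟩
      obtain ⟨g, rfl⟩ := hD.trans d hd a ha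
      exact (isConj_iff.2 ⟨π g, by simp⟩ : IsConj (π d) (π (g * d * g⁻¹)))
    · intro y hy
      obtain ⟨k, rfl⟩ := isConj_iff.1 (hy : IsConj (π d) y)
      obtain ⟨g, rfl⟩ := hπ k
      exact ⟨g * d * g⁻¹, hD.conj g d hd, by simp⟩

theorem exists_su_map' {n : ℕ} (hn : 3 ≤ n) {v w : Fin n → K4} (hv0 : v ≠ 0) (hw0 : w ≠ 0)
    (hv : Cfsg.hermForm n K4 2 v v = 0) (hw : Cfsg.hermForm n K4 2 w w = 0) :
    ∃ g : Cfsg.SU n K4 2, g.1.1 *ᵥ v = w := by
  have hF : Fintype.card K4 = 2 ^ 2 := card_K4.trans rfl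
  refine ClassicalSimple.exists_su_map hF hn hv0 hw0 ?_ ?_
  · simpa [Forms.hermB, Cfsg.hermForm, mul_comm] using hv
  · simpa [Forms.hermB, Cfsg.hermForm, mul_comm] using hw

/-- Everything needed to apply `core`. -/
theorem exists_setup {G : Type*} [Group G] {n : ℕ} (C : Cert n) (hb : Bridge (n + 4))
    {seeds : List (Fin (n + 4) → K4)} (hr : Reach (n + 4) seeds) (steps : List (Fin (n + 4) × ℕ))
    (idx : List (ℕ × K4)) (hidx : seeds = idx.map fun p => p.2 • (derive C.u steps).getD p.1 (C.u 0))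
    (hidx0 : ∀ p ∈ idx, p.2 ≠ 0)
    {π : G →* ↥(Cfsg.SU (n + 4) K4 2)} (hπ : Function.Surjective π) {D : Set G}
    (hD : Fischer.TClass D) (hZ : Subgroup.center G = ⊥) (h2 : IsPGroup 2 π.ker) :
    (∀ f ∈ D, ∃ u, u ≠ 0 ∧ Cfsg.hermForm (n + 4) K4 2 u u = 0 ∧ IsTv (π f) u) ∧
    (∀ u, u ≠ 0 → Cfsg.hermForm (n + 4) K4 2 u u = 0 → ∃ f ∈ D, IsTv (π f) u) ∧
    ∃ d, Setup π D C d := by
  have hn : 3 ≤ n + 4 := by omega
  have hnt : ∃ h : ↥(Cfsg.SU (n + 4) K4 2), h ≠ 1 := by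
    obtain ⟨g, hg⟩ := exists_su_map' hn (C.u_ne 0) (C.u_ne 1) (C.iso 0) (C.iso 1)
    refine ⟨g, fun h => C.tree_ne 1 (Ne.symm (by simp)) ?_⟩
    have e : C.u 0 = C.u 1 := by simpa [h] using hg
    rw [C.par1, ← e]
    exact C.iso 0
  have hE := image_class hπ hD hnt
  have tv1 : ∀ f ∈ D, ∃ u, u ≠ 0 ∧ Cfsg.hermForm (n + 4) K4 2 u u = 0 ∧ IsTv (π f) u := fun f hf =>
    exists_transvection card_K4 hE _ ⟨f, hf, rfl⟩
  have tv2 : ∀ u, u ≠ 0 → Cfsg.hermForm (n + 4) K4 2 u u = 0 → ∃ f ∈ D, IsTv (π f) u := by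
    intro u hu0 hu
    obtain ⟨f, hf⟩ := hD.nonempty
    obtain ⟨w, hw0, hw, hfw⟩ := tv1 f hf
    obtain ⟨k, hk⟩ := exists_su_map' hn hw0 hu0 hw hu
    obtain ⟨g, rfl⟩ := hπ k
    refine ⟨g * f * g⁻¹, hD.conj g f hf, ?_⟩
    have := hfw.conj (x := π g)
    rwa [hk, ← map_inv, ← map_mul, ← map_mul] at this
  refine ⟨tv1, tv2, ?_⟩
  choose d hdD hdt using fun k => tv2 (C.u k) (C.u_ne k) (C.iso k)
  have hc : ∀ {a b : G}, a ∈ D → b ∈ D → Commute (π a) (π b) → Commute a b := by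
    intro a b ha hb h
    rcases hD.ord a ha b hb with e2 | e3
    · exact hD.toTSet.commute_of_sq ha hb e2
    · have hm : (a * b) ^ 2 ∈ π.ker := by
        rw [MonoidHom.mem_ker, map_pow, map_mul, h.mul_pow, pow_two, pow_two, ← map_mul,
          ← map_mul, hD.sq a ha, hD.sq b hb, map_one, one_mul]
      obtain ⟨k, hk⟩ := h2 ⟨_, hm⟩
      have hk' : ((a * b) ^ 2) ^ 2 ^ k = 1 := congrArg Subtype.val hk
      rw [← pow_mul] at hk'
      have hcop : Nat.gcd (2 * 2 ^ k) 3 = 1 := by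
        rw [← pow_succ']; exact Nat.Coprime.pow_left _ (by decide)
      have hg : (a * b) ^ Nat.gcd (2 * 2 ^ k) 3 = 1 := pow_gcd_eq_one.2 ⟨hk', e3⟩
      rw [hcop, pow_one, mul_eq_one_iff_eq_inv, hD.toTSet.inv_eq hb] at hg
      exact hg ▸ Commute.refl a
  refine ⟨d, ⟨⟨hD, hZ, h2, ?_⟩, hdD, hdt, ?_⟩⟩
  · intro d' hd e he f hf h1 h2'
    obtain ⟨p, hp0, hp, tp⟩ := tv1 d' hd
    obtain ⟨q, hq0, hq, tq⟩ := tv1 e he
    obtain ⟨s, hs0, hs, ts⟩ := tv1 f hf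
    let S : Set (Fin (n + 4) → K4) :=
      {v | ∃ g ∈ Subgroup.closure {t | t ∈ D ∧ Commute t d'}, IsTv (π (g * e * g⁻¹)) v}
    obtain ⟨g, hg, hgs⟩ : s ∈ S := by
      refine hb p q s hp0 hp hq hs (fun h => h1 (hc he hd (tq.commute tp h)).symm)
        (fun h => h2' (hc hf hd (ts.commute tp h)).symm) S ⟨1, one_mem _, by simpa using tq⟩ ?_ ?_
      · rintro m hm v ⟨g, hg, hgv⟩
        exact ⟨g, hg, hgv.smul hm⟩
      · rintro x hx hxp v ⟨g, hg, hgv⟩
        by_cases hx0 : x = 0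
        · exact ⟨g, hg, by simpa [refl, hx0] using hgv⟩
        obtain ⟨a, ha, hax⟩ := tv2 x hx0 hx
        refine ⟨a * g, mul_mem (Subgroup.subset_closure ⟨ha, hc ha hd (hax.commute tp hxp)⟩) hg, ?_⟩
        have := hgv.conj (x := π a)
        rw [hax v, ← map_inv, ← map_mul, ← map_mul] at this
        simpa [refl, mul_assoc] using this
    exact ⟨g, hg, hgs.ext ts⟩
  · let H := Subgroup.closure (Set.range fun k => π (d k))
    let S : Set (Fin (n + 4) → K4) := {v | ∃ x ∈ H, IsTv x v}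
    have hS2 : ∀ x ∈ S, ∀ v ∈ S, refl x v ∈ S := by
      rintro x ⟨a, ha, hax⟩ v ⟨b, hb, hbv⟩
      refine ⟨a * b * a⁻¹, mul_mem (mul_mem ha hb) (inv_mem ha), ?_⟩
      have := hbv.conj (x := a)
      rwa [hax v] at this
    have hS1 : ∀ m : K4, m ≠ 0 → ∀ v ∈ S, m • v ∈ S := by
      rintro m hm v ⟨a, ha, hav⟩
      exact ⟨a, ha, hav.smul hm⟩
    have hu : ∀ k, C.u k ∈ S := fun k => ⟨_, Subgroup.subset_closure ⟨k, rfl⟩, hdt k⟩
    have hall := hr S hS1 hS2 (fun t ht => by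
      rw [hidx] at ht
      obtain ⟨p, hp, rfl⟩ := List.mem_map.1 ht
      refine hS1 _ (hidx0 p hp) _ ?_
      rw [List.getD_eq_getElem?_getD]
      cases h : (derive C.u steps)[p.1]? with
      | none => exact hu 0
      | some w => exact derive_mem C.u S hu hS2 steps w (List.mem_of_getElem? h))
    rw [eq_top_iff, ← hE.2.2, Subgroup.closure_le]
    rintro _ ⟨f, hf, rfl⟩
    obtain ⟨w, hw0, hw, hfw⟩ := tv1 f hf
    obtain ⟨x, hx, hxw⟩ := hall w hw0 hw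
    rwa [hfw.ext hxw]

end Cfsg.Agent.Transpos.OTwo
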