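import Cfsg.Agent.Lib.Transpos.SUThreeTwo

/-!
# The semilinear picture

`P` carries an operator `Ω` with `Ω² + Ω + 1 = 0` and a semilinear `ν` with `ν² = 0`; the maps
`ι j : P →+ M` are moved by operators `T k` according to the Gram matrix `H` up to a `ν`-term.
`Good f L` says that `f` follows the linear map `L` up to that term.
-/

set_option autoImplicit false

namespace Cfsg.Agent.Transpos.OTwo

open Cfsg.Agent.Transpos.SU32

/-- Two operators `x`, `y` with `z² + z + 1 = 0` for `z = x, y, y x`: their sum is semilinear with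
square zero. -/
theorem pair_facts {P : Type*} [AddCommGroup P] (two : ∀ u : P, u + u = 0) {x y : P →+ P}
    (hx : ∀ u, x (x u) = x u + u) (hy : ∀ u, y (y u) = y u + u)
    (h : ∀ u, y (x (y (x u))) = y (x u) + u) (v : P) :
    y (x v) + x (x v) = x (x (y v + x v)) ∧ y (y v + x v) + x (y v + x v) = 0 := by
  have two' : ∀ a b : P, a + (a + b) = b := fun a b => by rw [← add_assoc, two, zero_add]
  have a1 : ∀ u, x (y (x u)) = x u + y u + u := fun u => by
    have e := hy (x (y (x u)))
    rw [h, map_add, hy] at e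
    calc x (y (x u)) = (y (x u) + u) + (y (x u) + u + x (y (x u))) := (two' _ _).symm
      _ = (y (x u) + u) + (y (x u) + x u + y u) := by rw [← e]
      _ = x u + y u + u := by simp [two, two', add_comm, add_left_comm, add_assoc]
  have a2 : x (y v) = y (x v) + x v + y v := by
    have := a1 (x v + v)
    rw [map_add, hx, show x v + v + x v = v by rw [add_comm, two']] at this
    rw [this, map_add]
    simp [two, two', add_comm, add_left_comm, add_assoc]
  constructor
  · rw [hx (y v + x v), map_add, a2, hx]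
    simp [two, two', add_comm, add_left_comm, add_assoc]
  · rw [map_add, map_add, hy, a2, hx]
    simp [two, two', add_comm, add_left_comm, add_assoc]

/-- The data. -/
structure Rep (n : ℕ) (M P : Type*) [AddCommGroup M] [AddCommGroup P] where
  two : ∀ x : P, x + x = 0
  om : P →+ P
  nu : P →+ P
  om_om : ∀ x, om (om x) = om x + x
  nu_om : ∀ x, nu (om x) = om (om (nu x))
  nu_nu : ∀ x, nu (nu x) = 0
  ι : Fin n → P →+ M
  T : Fin n → M →+ M
  H : Fin n → Fin n → K4
  B : Fin n → Fin n → K4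
  co : (Fin n → K4) →ₗ[K4] (Fin n → K4)
  vec : (Fin n → K4) →ₗ[K4] (Fin n → K4)
  co_vec : ∀ a, co (vec a) = a
  vec_co : ∀ v, vec (co v) = v
  hT : ∀ j k x, T k (ι j x) = ι k ((if (H j k).l then x else 0) + (if (H j k).h then om x else 0) +
    ((if (B j k).l then nu x else 0) + (if (B j k).h then om (nu x) else 0)))

namespace Rep

variable {n : ℕ} {M P : Type*} [AddCommGroup M] [AddCommGroup P] (R : Rep n M P)
include R

/-- A scalar acting on `P`. -/
def ev (a : K4) : P →+ P := (if a.l then AddMonoidHom.id P else 0) + if a.h then R.om else 0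

theorem ev_apply (a : K4) (x : P) :
    R.ev a x = (if a.l then x else 0) + if a.h then R.om x else 0 := by
  unfold ev; split_ifs <;> simp

theorem hT' (j k : Fin n) (x : P) :
    R.T k (R.ι j x) = R.ι k (R.ev (R.H j k) x + R.ev (R.B j k) (R.nu x)) := by
  rw [R.hT, R.ev_apply, R.ev_apply]

theorem two' (x y : P) : x + (x + y) = y := by rw [← add_assoc, R.two, zero_add]

theorem ev_add (a b : K4) (x : P) : R.ev (a + b) x = R.ev a x + R.ev b x := by
  rcases a with ⟨_ | _, _ | _⟩ <;> rcases b with ⟨_ | _, _ | _⟩ <;>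
    simp [R.ev_apply, show ∀ p q : K4, p + q = ⟨Bool.xor p.l q.l, Bool.xor p.h q.h⟩ from fun _ _ => rfl,
      R.two, R.two', add_comm, add_left_comm]

theorem ev_zero (x : P) : R.ev 0 x = 0 := by
  simp [R.ev_apply, show (0 : K4) = ⟨false, false⟩ from rfl]

theorem ev_one (x : P) : R.ev 1 x = x := by
  simp [R.ev_apply, show (1 : K4) = ⟨true, false⟩ from rfl]

theorem ev_mul (a b : K4) (x : P) : R.ev (a * b) x = R.ev a (R.ev b x) := by
  rcases a with ⟨_ | _, _ | _⟩ <;> rcases b with ⟨_ | _, _ | _⟩ <;>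
    simp [R.ev_apply, R.om_om, show ∀ p q : K4, p * q = ⟨Bool.xor (p.l && q.l) (p.h && q.h),
      Bool.xor (Bool.xor (p.l && q.h) (p.h && q.l)) (p.h && q.h)⟩ from fun _ _ => rfl,
      R.two, R.two', add_comm, add_left_comm]

theorem nu_ev (a : K4) (x : P) : R.nu (R.ev a x) = R.ev (a * a) (R.nu x) := by
  rw [R.ev_mul, R.ev_apply, R.ev_apply, R.ev_apply]
  rcases a with ⟨_ | _, _ | _⟩ <;> simp [R.nu_om, R.om_om, R.two, R.two', add_comm, add_left_comm]

theorem ev_sum {γ : Type*} (s : Finset γ) (a : γ → K4) (x : P) :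
    R.ev (∑ i ∈ s, a i) x = ∑ i ∈ s, R.ev (a i) x := by
  classical
  induction s using Finset.induction with
  | empty => simp [R.ev_zero]
  | insert i s hi ih => rw [Finset.sum_insert hi, Finset.sum_insert hi, R.ev_add, ih]

/-- The combination with coefficients `a`. -/
def phi (a : Fin n → K4) : P →+ M := ∑ j, (R.ι j).comp (R.ev (a j))

theorem phi_apply (a : Fin n → K4) (x : P) : R.phi a x = ∑ j, R.ι j (R.ev (a j) x) := by
  simp [phi]

theorem phi_add (a b : Fin n → K4) (x : P) : R.phi (a + b) x = R.phi a x + R.phi b x := by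
  simp [R.phi_apply, R.ev_add, Finset.sum_add_distrib]

theorem phi_single (k : Fin n) (a : K4) (x : P) :
    R.phi (Pi.single k a) x = R.ι k (R.ev a x) := by
  rw [R.phi_apply, Finset.sum_eq_single k (fun j _ hj => by simp [Pi.single_eq_of_ne hj, R.ev_zero])
    (fun h => absurd (Finset.mem_univ k) h), Pi.single_eq_same]

theorem phi_zero (x : P) : R.phi 0 x = 0 := by simp [R.phi_apply, R.ev_zero]

theorem T_phi (k : Fin n) (a : Fin n → K4) (x : P) :
    R.T k (R.phi a x) = R.phi (Pi.single k (∑ j, a j * R.H j k)) x +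
      R.phi (Pi.single k (∑ j, R.B j k * (a j * a j))) (R.nu x) := by
  rw [R.phi_single, R.phi_single, R.ev_sum, R.ev_sum, R.phi_apply, map_sum, ← map_add,
    ← Finset.sum_add_distrib, map_sum]
  refine Finset.sum_congr rfl fun j _ => ?_
  rw [R.hT', R.nu_ev, ← R.ev_mul, ← R.ev_mul, mul_comm (a j) (R.H j k)]

theorem T_phi' (k : Fin n) (a : Fin n → K4) (x : P) :
    R.T k (R.phi a (R.nu x)) = R.phi (Pi.single k (∑ j, a j * R.H j k)) (R.nu x) := by
  rw [R.T_phi, R.nu_nu, map_zero, add_zero]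

/-- `f` follows `L`. -/
def Good (f : M →+ M) (L : (Fin n → K4) →ₗ[K4] (Fin n → K4)) : Prop :=
  (∀ v, ∃ b, ∀ x, f (R.phi (R.co v) x) = R.phi (R.co (L v)) x + R.phi b (R.nu x)) ∧
    ∀ v x, f (R.phi (R.co v) (R.nu x)) = R.phi (R.co (L v)) (R.nu x)

theorem good_id : R.Good (AddMonoidHom.id M) LinearMap.id :=
  ⟨fun v => ⟨0, fun x => by simp [R.phi_zero]⟩, fun v x => rfl⟩

theorem Good.comp {f g : M →+ M} {L L' : (Fin n → K4) →ₗ[K4] (Fin n → K4)} (hf : R.Good f L)
    (hg : R.Good g L') : R.Good (f.comp g) (L.comp L') := by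
  refine ⟨fun v => ?_, fun v x => ?_⟩
  · obtain ⟨b, hb⟩ := hg.1 v
    obtain ⟨b', hb'⟩ := hf.1 (L' v)
    refine ⟨b' + R.co (L (R.vec b)), fun x => ?_⟩
    rw [AddMonoidHom.comp_apply, hb, map_add, hb', ← R.co_vec b, hf.2, R.phi_add, R.co_vec,
      LinearMap.comp_apply, add_assoc]
  · rw [AddMonoidHom.comp_apply, hg.2, hf.2, LinearMap.comp_apply]

theorem good_step {k : Fin n} {L : (Fin n → K4) →ₗ[K4] (Fin n → K4)}
    (hL : ∀ v, R.co (L v) = R.co v + Pi.single k (∑ j, R.co v j * R.H j k)) :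
    R.Good (AddMonoidHom.id M + R.T k) L := by
  refine ⟨fun v => ⟨Pi.single k (∑ j, R.B j k * (R.co v j * R.co v j)), fun x => ?_⟩, fun v x => ?_⟩
  · rw [AddMonoidHom.add_apply, AddMonoidHom.id_apply, R.T_phi, hL, R.phi_add, add_assoc]
  · rw [AddMonoidHom.add_apply, AddMonoidHom.id_apply, R.T_phi', hL, R.phi_add]

theorem Good.congr {f g : M →+ M} {L L' : (Fin n → K4) →ₗ[K4] (Fin n → K4)} (hf : R.Good f L)
    (h : ∀ m, g m = f m) (h' : ∀ v, L' v = L v) : R.Good g L' :=
  ⟨fun v => (hf.1 v).imp fun b hb x => by rw [h, h', hb], fun v x => by rw [h, h', hf.2]⟩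

theorem ι_eq (k : Fin n) (x : P) : R.ι k x = R.phi (Pi.single k 1) x := by
  rw [R.phi_single, R.ev_one]

/-- An operator over the identity that respects `Ω` on the base is trivial there. -/
theorem fix_base {f : M →+ M} (hf : R.Good f LinearMap.id) {o k : Fin n} (hok : R.H o k = 1)
    (hB : R.B o k = 0) (hinj : Function.Injective (R.ι k))
    (hbase : ∀ x, ∃ z, f (R.ι o x) = R.ι o z ∧ f (R.ι o (R.om x)) = R.ι o (R.om z)) (x : P) :
    f (R.ι o x) = R.ι o x := by
  obtain ⟨b, hb⟩ := hf.1 (R.vec (Pi.single o 1))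
  simp only [R.co_vec, ← R.ι_eq, LinearMap.id_apply] at hb
  set κ := ∑ j, b j * R.H j k
  have key : ∀ x z, f (R.ι o x) = R.ι o z → z = x + R.ev κ (R.nu x) := fun x z hz => by
    have e := congrArg (R.T k) ((hz.symm.trans (hb x)))
    rw [map_add, R.hT' o k z, R.hT' o k x, R.T_phi', R.phi_single, ← map_add, hok, hB,
      R.ev_one, R.ev_one, R.ev_zero, R.ev_zero, add_zero, add_zero] at e
    exact hinj e
  obtain ⟨z, hz, hz'⟩ := hbase x
  have h1 := key x z hz
  have h2 := key _ _ hz'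
  rw [h1, map_add, add_right_inj, R.nu_om, R.om_om] at h2
  -- `Ω (κ ν x) = κ (Ω ν x + ν x)`
  have h3 : R.om (R.ev κ (R.nu x)) = R.ev κ (R.om (R.nu x)) := by
    have e : ∀ y, R.om y = R.ev (⟨false, true⟩ : K4) y := fun y => by simp [R.ev_apply]
    rw [e, e (R.nu x), ← R.ev_mul, ← R.ev_mul, mul_comm]
  rw [h3, map_add, left_eq_add] at h2
  rw [hz, h1, h2, add_zero]

/-- The combinations. -/
def span : AddSubgroup M := AddSubgroup.closure {m | ∃ a x, m = R.phi a x}

theorem Good.mem_span {f : M →+ M} {L : (Fin n → K4) →ₗ[K4] (Fin n → K4)} (hf : R.Good f L)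
    (k : Fin n) (x : P) : f (R.ι k x) ∈ R.span := by
  obtain ⟨b, hb⟩ := hf.1 (R.vec (Pi.single k 1))
  rw [R.ι_eq, ← R.co_vec (Pi.single k 1), hb]
  exact add_mem (AddSubgroup.subset_closure ⟨_, _, rfl⟩) (AddSubgroup.subset_closure ⟨_, _, rfl⟩)

/-- A fixed combination of an operator over a fixed-point-free linear map of order three is zero. -/
theorem eq_zero_of_fixed {f : M →+ M} {L : (Fin n → K4) →ₗ[K4] (Fin n → K4)} (hf : R.Good f L)
    (htwo : ∀ m : M, m + m = 0) (hL : ∀ v, L (L v) + L v + v = 0) {m : M} (hm : m ∈ R.span)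
    (hfix : f m = m) : m = 0 := by
  let Q : M →+ M := f.comp f + f + AddMonoidHom.id M
  have hQ2 : ∀ a x, Q (R.phi a (R.nu x)) = 0 := fun a x => by
    simp only [Q, AddMonoidHom.add_apply, AddMonoidHom.comp_apply, AddMonoidHom.id_apply]
    rw [← R.co_vec a, hf.2, hf.2, ← R.phi_add, ← R.phi_add, ← map_add, ← map_add, hL, map_zero,
      R.phi_zero]
  have hQ1 : ∀ a, ∃ b, ∀ x, Q (R.phi a x) = R.phi b (R.nu x) := fun a => by
    obtain ⟨b, hb⟩ := (hf.comp R hf).1 (R.vec a)
    obtain ⟨b', hb'⟩ := hf.1 (R.vec a)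
    refine ⟨b + b', fun x => ?_⟩
    simp only [Q, AddMonoidHom.add_apply, AddMonoidHom.id_apply]
    simp only [R.co_vec, LinearMap.comp_apply] at hb hb'
    have e : R.phi (R.co (L (L (R.vec a)))) x + R.phi (R.co (L (R.vec a))) x + R.phi a x = 0 := by
      conv_lhs => arg 2; rw [← R.co_vec a]
      rw [← R.phi_add, ← R.phi_add, ← map_add, ← map_add, hL, map_zero, R.phi_zero]
    rw [hb, hb', R.phi_add]
    linear_combination (norm := abel) e
  have hQQ : ∀ y ∈ R.span, Q (Q y) = 0 := fun y hy => by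
    induction hy using AddSubgroup.closure_induction with
    | mem y hy =>
      obtain ⟨a, x, rfl⟩ := hy
      obtain ⟨b, hb⟩ := hQ1 a
      rw [hb, hQ2]
    | zero => simp
    | add a b _ _ ha hb => rw [map_add, map_add, ha, hb, add_zero]
    | neg a _ ha => rw [map_neg, map_neg, ha, neg_zero]
  have e : Q m = m := by
    simp only [Q, AddMonoidHom.add_apply, AddMonoidHom.comp_apply, AddMonoidHom.id_apply, hfix, htwo,
      zero_add]
  have := hQQ m hm
  rwa [e, e] at this

end Rep

end Cfsg.Agent.Transpos.OTwo
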