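import Cfsg.Agent.Lib.Transpos.OTwo.Sys
import Cfsg.Agent.Lib.Transpos.OTwo.Rep

/-!
# The kernel of a 3-transposition group over `SU_n(2)`

`Cert n` is a family of `n` isotropic vectors, a basis, joined by a tree and one triangle (with
possibly a second triangle on the same edge).  For a context over `SU_n(2)` with such vectors
generating, the kernel centralises the normal group `N`, is elementary abelian, and elements over
fixed-point-free maps of order three fix nothing in `N`.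
-/

set_option autoImplicit false

namespace Cfsg.Agent.Transpos.OTwo

open Cfsg.Agent.Transpos.SU32
open scoped Matrix

/-- `x` is the transvection at `u`. -/
def IsTv {n : ℕ} (x : ↥(Cfsg.SU n K4 2)) (u : Fin n → K4) : Prop :=
  ∀ v : Fin n → K4, x.1.1 *ᵥ v = v + Cfsg.hermForm n K4 2 v u • u

theorem herm_add {n : ℕ} (a b c : Fin n → K4) :
    Cfsg.hermForm n K4 2 (a + b) c = Cfsg.hermForm n K4 2 a c + Cfsg.hermForm n K4 2 b c := by
  simp [Cfsg.hermForm, add_mul, Finset.sum_add_distrib]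

theorem herm_smul {n : ℕ} (m : K4) (a c : Fin n → K4) :
    Cfsg.hermForm n K4 2 (m • a) c = m * Cfsg.hermForm n K4 2 a c := by
  simp [Cfsg.hermForm, Finset.mul_sum, mul_assoc]

theorem herm_sum {n : ℕ} {γ : Type*} (s : Finset γ) (a : γ → Fin n → K4) (c : Fin n → K4) :
    Cfsg.hermForm n K4 2 (∑ i ∈ s, a i) c = ∑ i ∈ s, Cfsg.hermForm n K4 2 (a i) c := by
  classical
  induction s using Finset.induction with
  | empty => simp [Cfsg.hermForm]
  | insert i s hi ih => rw [Finset.sum_insert hi, Finset.sum_insert hi, herm_add, ih]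

theorem herm_swap_eq_zero {n : ℕ} {a b : Fin n → K4} (h : Cfsg.hermForm n K4 2 a b = 0) :
    Cfsg.hermForm n K4 2 b a = 0 := by
  have k : ∀ x y : K4, (x * y ^ 2) ^ 2 = y * x ^ 2 := by
    intro x y; rcases x with ⟨_ | _, _ | _⟩ <;> rcases y with ⟨_ | _, _ | _⟩ <;> rfl
  haveI : CharP K4 2 := CharTwo.of_one_ne_zero_of_two_eq_zero one_ne_zero (by decide)
  unfold Cfsg.hermForm at h ⊢
  have := congrArg (· ^ 2) h
  simpa [sum_pow_char, k] using this

theorem IsTv.not_commute {n : ℕ} {x y : ↥(Cfsg.SU n K4 2)} {a b : Fin n → K4} (hx : IsTv x a)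
    (hy : IsTv y b) (ha : Cfsg.hermForm n K4 2 a a = 0) (ha0 : a ≠ 0)
    (hab : Cfsg.hermForm n K4 2 a b ≠ 0) : ¬Commute x y := by
  intro h
  have e := congrArg (fun z : ↥(Cfsg.SU n K4 2) => z.1.1 *ᵥ a) h.eq
  simp only [Subgroup.coe_mul, Matrix.SpecialLinearGroup.coe_mul, ← Matrix.mulVec_mulVec, hy a,
    hx a, ha, zero_smul, add_zero, hx (a + _), herm_add, herm_smul, zero_add] at e
  rw [add_eq_left, smul_eq_zero, mul_eq_zero] at e
  exact (e.resolve_right ha0).elim hab fun e2 => hab (herm_swap_eq_zero e2)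

theorem IsTv.commute {n : ℕ} {x y : ↥(Cfsg.SU n K4 2)} {a b : Fin n → K4} (hx : IsTv x a)
    (hy : IsTv y b) (hab : Cfsg.hermForm n K4 2 a b = 0) : Commute x y := by
  refine Subtype.ext (Subtype.ext (Matrix.ext_of_mulVec_single fun i => ?_))
  simp only [Subgroup.coe_mul, Matrix.SpecialLinearGroup.coe_mul, ← Matrix.mulVec_mulVec, hy _,
    hx _, herm_add, herm_smul, hab, herm_swap_eq_zero hab, mul_zero, add_zero]
  abel

theorem IsTv.conj {n : ℕ} {x y : ↥(Cfsg.SU n K4 2)} {b : Fin n → K4}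
    (hy : IsTv y b) : IsTv (x * y * x⁻¹) (x.1.1 *ᵥ b) := fun v => by
  have hinv : x.1.1 *ᵥ ((x⁻¹).1.1 *ᵥ v) = v := by
    rw [Matrix.mulVec_mulVec, ← Matrix.SpecialLinearGroup.coe_mul, ← Subgroup.coe_mul,
      mul_inv_cancel, Subgroup.coe_one, Matrix.SpecialLinearGroup.coe_one, Matrix.one_mulVec]
  have hpres := x.2 ((x⁻¹).1.1 *ᵥ v) b
  change Cfsg.hermForm n K4 2 (x.1.1 *ᵥ ((x⁻¹).1.1 *ᵥ v)) (x.1.1 *ᵥ b) = _ at hpres
  rw [hinv] at hpres
  simp only [Subgroup.coe_mul, Matrix.SpecialLinearGroup.coe_mul, ← Matrix.mulVec_mulVec]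
  rw [hy, Matrix.mulVec_add, Matrix.mulVec_smul, hinv, hpres]

/-- The combinatorial certificate. -/
structure Cert (n : ℕ) where
  u : Fin (n + 4) → Fin (n + 4) → K4
  inv : Matrix (Fin (n + 4)) (Fin (n + 4)) K4
  par : Fin (n + 4) → Fin (n + 4)
  shared : Bool
  hinv : inv * Matrix.of u = 1
  par1 : par 1 = 0
  par2 : par 2 = 1
  par3 : shared = true → par 3 = 1
  par_lt : ∀ k, k ≠ 0 → par k < k
  iso : ∀ k, Cfsg.hermForm (n + 4) K4 2 (u k) (u k) = 0
  gram : ∀ j k, Cfsg.hermForm (n + 4) K4 2 (u j) (u k) = 0 ∨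
    ((par k = j ∧ k ≠ 0 ∨ par j = k ∧ j ≠ 0) ∧ Cfsg.hermForm (n + 4) K4 2 (u j) (u k) = 1) ∨
    (j = 2 ∧ k = 0 ∧ Cfsg.hermForm (n + 4) K4 2 (u j) (u k) = w) ∨
    (j = 0 ∧ k = 2 ∧ Cfsg.hermForm (n + 4) K4 2 (u j) (u k) = v) ∨
    (shared = true ∧ j = 3 ∧ k = 0 ∧ Cfsg.hermForm (n + 4) K4 2 (u j) (u k) = w) ∨
    (shared = true ∧ j = 0 ∧ k = 3 ∧ Cfsg.hermForm (n + 4) K4 2 (u j) (u k) = v)
  tree_ne : ∀ k, k ≠ 0 → Cfsg.hermForm (n + 4) K4 2 (u (par k)) (u k) ≠ 0
  tri_ne : Cfsg.hermForm (n + 4) K4 2 (u 0) (u 2) ≠ 0 ∧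
    Cfsg.hermForm (n + 4) K4 2 (u 0) (u 1 + Cfsg.hermForm (n + 4) K4 2 (u 1) (u 2) • u 2) ≠ 0
  sh : shared = true → Cfsg.hermForm (n + 4) K4 2 (u 0) (u 3) ≠ 0 ∧
    Cfsg.hermForm (n + 4) K4 2 (u 2) (u 3) = 0 ∧
    Cfsg.hermForm (n + 4) K4 2 (u 0) (u 1 + Cfsg.hermForm (n + 4) K4 2 (u 1) (u 3) • u 3) ≠ 0 ∧
    Cfsg.hermForm (n + 4) K4 2 (u 3) (u 1 + Cfsg.hermForm (n + 4) K4 2 (u 1) (u 2) • u 2) ≠ 0 ∧
    Cfsg.hermForm (n + 4) K4 2 (u 0)
      ((u 1 + Cfsg.hermForm (n + 4) K4 2 (u 1) (u 2) • u 2) +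
        Cfsg.hermForm (n + 4) K4 2 (u 1 + Cfsg.hermForm (n + 4) K4 2 (u 1) (u 2) • u 2) (u 3) • u 3) ≠ 0

theorem Cert.u_ne {n : ℕ} (C : Cert n) (k : Fin (n + 4)) : C.u k ≠ 0 := by
  intro h
  have h0 : Matrix.of C.u * C.inv = 1 := mul_eq_one_comm.1 C.hinv
  have h1 := congrFun (congrFun h0 k) k
  rw [Matrix.mul_apply, Matrix.one_apply_eq] at h1
  simp [h] at h1

/-- A context over `SU_n(2)` with lifts of the vectors of a certificate. -/
structure Setup {G : Type*} [Group G] {n : ℕ} (π : G →* ↥(Cfsg.SU (n + 4) K4 2)) (D : Set G)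
    (C : Cert n) (d : Fin (n + 4) → G) : Prop where
  ctx : Ctx π D
  mem : ∀ k, d k ∈ D
  tv : ∀ k, IsTv (π (d k)) (C.u k)
  gen : Subgroup.closure (Set.range fun k => π (d k)) = ⊤

variable {G : Type*} [Group G] {n : ℕ} {π : G →* ↥(Cfsg.SU (n + 4) K4 2)} {D : Set G}
  {C : Cert n} {d : Fin (n + 4) → G}

theorem conj_congr (c : Ctx π D) {e e' a : G} (he : e ∈ D) (he' : e' ∈ D) (h : π e = π e')
    (ha : a ∈ N π D) : e' * a * e' = e * a * e := by
  have hy : e⁻¹ * e' ∈ N π D := Subgroup.subset_closure (Set.mem_biUnion he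
    ⟨by simp [h], by rwa [mul_inv_cancel_left]⟩)
  have e1 : e' = e * (e⁻¹ * e') := (mul_inv_cancel_left e e').symm
  have e2 : e' = (e⁻¹ * e')⁻¹ * e := by
    rw [mul_inv_rev, inv_inv, c.cls.toTSet.inv_eq he', mul_assoc, c.cls.sq e he, mul_one]
  conv_lhs => arg 1; arg 1; rw [e1]
  conv_lhs => arg 2; rw [e2]
  rw [c.cls.toTSet.inv_eq he] at hy ⊢
  rw [show e * (e * e') * a * ((e * e')⁻¹ * e) = e * ((e * e') * a * (e * e')⁻¹) * e by
    simp only [mul_assoc], (commute_N c hy ha).eq, mul_inv_cancel_right]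

/-- Everything that the algebra gives. -/
theorem core (S : Setup π D C d) :
    (∀ v, π v = 1 → ∀ m ∈ N π D, Commute v m) ∧
    ∀ g : G, (∀ x : Fin (n + 4) → K4,
        (π g).1.1 *ᵥ ((π g).1.1 *ᵥ x) + (π g).1.1 *ᵥ x + x = 0) →
      ∀ m ∈ N π D, Commute g m → m = 1 := by
  classical
  have c := S.ctx
  obtain ⟨Y, hA, hT⟩ := exists_sys c
  have hnc : ∀ j k, Cfsg.hermForm (n + 4) K4 2 (C.u j) (C.u k) ≠ 0 → ¬Commute (d j) (d k) :=
    fun j k h e => (S.tv j).not_commute (S.tv k) (C.iso j) (C.u_ne j) h (e.map π)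
  have hc0 : ∀ j k, Cfsg.hermForm (n + 4) K4 2 (C.u j) (C.u k) = 0 → Commute (d j) (d k) :=
    fun j k h => commute_of_map c (S.mem j) (S.mem k) ((S.tv j).commute (S.tv k) h)
  have hthird : ∀ i j, IsTv (π (d j * d i * d j))
      (C.u i + Cfsg.hermForm (n + 4) K4 2 (C.u i) (C.u j) • C.u j) := fun i j => by
    have := (S.tv i).conj (x := π (d j))
    rwa [S.tv j, ← map_inv, c.cls.toTSet.inv_eq (S.mem j), ← map_mul, ← map_mul] at this
  have hmem3 : ∀ i j, d j * d i * d j ∈ D := fun i j => c.cls.toTSet.conj_mem (S.mem j) (S.mem i)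
  let P := ↥(Y.A (d 0))
  -- composites around the triangles, on the base
  let hol' : G → G → G → (P →+ P) := fun _ e f =>
    ((Y.hol (d 0) e f).comp (Y.A (d 0)).subtype).codRestrict (Y.A (d 0))
      fun _ => Y.mem _ (S.mem 0) _
  let Ω : P →+ P := hol' (d 0) (d 1) (d 2)
  let Ω' : P →+ P := hol' (d 0) (d 1) (d 3)
  have n01 : ¬Commute (d 0) (d 1) := by
    have := hnc _ _ (C.tree_ne 1 (Ne.symm (by simp)))
    rwa [C.par1] at this
  have n12 : ¬Commute (d 1) (d 2) := by
    have := hnc _ _ (C.tree_ne 2 (by simp [Fin.ext_iff, Nat.mod_eq_of_lt]))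
    rwa [C.par2] at this
  have n02 := hnc _ _ C.tri_ne.1
  have n0r : ¬Commute (d 0) (d 2 * d 1 * d 2) := fun e =>
    (S.tv 0).not_commute (hthird 1 2) (C.iso 0) (C.u_ne 0) C.tri_ne.2 (e.map π)
  have tri : ∀ x : P, Ω (Ω x) = Ω x + x ∧ hol' (d 0) (d 2) (d 1) x = Ω x + x := fun x => by
    have := Y.triangle (S.mem 0) (S.mem 1) (S.mem 2) (hmem3 1 2) n01 n02 n12 n0r x.2
    exact ⟨Subtype.ext this.1, Subtype.ext this.2⟩
  have ptwo : ∀ x : P, x + x = 0 := fun x => Subtype.ext (Y.two x.1)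
  have ptwo' : ∀ x y : P, x + (x + y) = y := fun x y => by rw [← add_assoc, ptwo, zero_add]
  let ν : P →+ P := if C.shared then Ω' + Ω else 0
  have shfacts : C.shared = true → (∀ x : P, Ω' (Ω' x) = Ω' x + x ∧
      hol' (d 0) (d 3) (d 1) x = Ω' x + x) ∧ ∀ x, Ω' (Ω (Ω' (Ω x))) = Ω' (Ω x) + x := by
    intro hs
    obtain ⟨s1, s2, s3, s4, s5⟩ := C.sh hs
    have n13 : ¬Commute (d 1) (d 3) := by
      have := hnc _ _ (C.tree_ne 3 (by simp [Fin.ext_iff, Nat.mod_eq_of_lt]))
      rwa [C.par3 hs] at this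
    have n0s : ¬Commute (d 0) (d 3 * d 1 * d 3) := fun e =>
      (S.tv 0).not_commute (hthird 1 3) (C.iso 0) (C.u_ne 0) s3 (e.map π)
    have nr3 : ¬Commute (d 2 * d 1 * d 2) (d 3) := fun e =>
      (S.tv 3).not_commute (hthird 1 2) (C.iso 3) (C.u_ne 3) s4 (e.symm.map π)
    have hL := fun x : P => Y.shared (S.mem 0) (S.mem 1) (S.mem 2) (S.mem 3) (hmem3 1 2) n01 n02
      n12 n0r (hc0 2 3 s2) x.2
    have n0L : ¬Commute (d 0) (d 3 * (d 2 * d 1 * d 2) * d 3) := by
      intro e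
      have h1 := (hthird 1 2).conj (x := π (d 3))
      rw [S.tv 3, ← map_inv, c.cls.toTSet.inv_eq (S.mem 3), ← map_mul, ← map_mul] at h1
      exact (S.tv 0).not_commute h1 (C.iso 0) (C.u_ne 0) s5 (e.map π)
    refine ⟨fun x => ?_, fun x => ?_⟩
    · have := Y.triangle (S.mem 0) (S.mem 1) (S.mem 3) (hmem3 1 3) n01 (hnc _ _ s1) n13 n0s x.2
      exact ⟨Subtype.ext this.1, Subtype.ext this.2⟩
    · have := (Y.triangle (S.mem 0) (hmem3 1 2) (S.mem 3)
        (c.cls.toTSet.conj_mem (S.mem 3) (hmem3 1 2)) n0r (hnc _ _ s1) nr3 n0L x.2).1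
      rw [hL x] at this
      change Y.hol (d 0) (d 2 * d 1 * d 2) (d 3) ((Ω' (Ω x) : P) : NMod c) = _ at this
      rw [hL (Ω' (Ω x))] at this
      exact Subtype.ext this
  -- the maps along the tree
  let it : ℕ → Fin (n + 4) → (P →+ NMod c) := fun m =>
    Nat.rec (motive := fun _ => Fin (n + 4) → (P →+ NMod c))
      (fun _ => (Y.A (d 0)).subtype)
      (fun _ f k => if k = 0 then (Y.A (d 0)).subtype else (Y.T (d k)).comp (f (C.par k))) m
  have hit0 : ∀ m, it m 0 = (Y.A (d 0)).subtype := fun m => by cases m <;> simp [it]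
  have hit : ∀ m k, k ≠ 0 → it (m + 1) k = (Y.T (d k)).comp (it m (C.par k)) := fun m k hk => by
    simp [it, hk]
  have hstab : ∀ (N' : ℕ) (k : Fin (n + 4)), k.val ≤ N' → ∀ m, k.val ≤ m → it m k = it k.val k := by
    intro N'
    induction N' with
    | zero =>
      intro k hk m _
      rw [show k = 0 from Fin.ext (Nat.le_zero.1 hk), hit0, hit0]
    | succ N' ih =>
      intro k hk m hm
      by_cases h0 : k = 0
      · rw [h0, hit0, hit0]
      have hkv : 0 < k.val := Nat.pos_of_ne_zero fun h => h0 (Fin.ext h)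
      have hp : (C.par k).val < k.val := C.par_lt k h0
      obtain ⟨m', rfl⟩ : ∃ m', m = m' + 1 := ⟨m - 1, by omega⟩
      obtain ⟨k', hk'⟩ : ∃ k', k.val = k' + 1 := ⟨k.val - 1, by omega⟩
      rw [hit m' k h0, hk', hit k' k h0, ih _ (by omega) m' (by omega), ih _ (by omega) k' (by omega)]
  let ι : Fin (n + 4) → (P →+ NMod c) := fun k => it (n + 4) k
  have hι0 : ι 0 = (Y.A (d 0)).subtype := hit0 (n + 4)
  have hιk : ∀ k, k ≠ 0 → ι k = (Y.T (d k)).comp (ι (C.par k)) := fun k hk => by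
    have hp : (C.par k).val < k.val := C.par_lt k hk
    have := k.isLt
    rw [show ι k = (Y.T (d k)).comp (it (n + 3) (C.par k)) from hit (n + 3) k hk,
      hstab _ (C.par k) le_rfl (n + 3) (by omega)]
    exact congrArg _ (hstab _ (C.par k) le_rfl (n + 4) (by omega)).symm
  have hιmem : ∀ k x, ι k x ∈ Y.A (d k) := fun k x => by
    by_cases hk : k = 0
    · rw [hk, hι0]; exact x.2
    · rw [hιk k hk]; exact Y.mem _ (S.mem k) _
  have hιinj : ∀ (m : ℕ) (k : Fin (n + 4)), k.val ≤ m → Function.Injective (ι k) := by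
    intro m
    induction m with
    | zero =>
      intro k hk
      rw [show k = 0 from Fin.ext (Nat.le_zero.1 hk), hι0]
      exact Subtype.val_injective
    | succ m ih =>
      intro k hk
      by_cases h0 : k = 0
      · rw [h0, hι0]; exact Subtype.val_injective
      have hp : (C.par k).val < k.val := C.par_lt k h0
      refine (injective_iff_map_eq_zero _).2 fun x hx => ?_
      rw [hιk k h0] at hx
      exact ((injective_iff_map_eq_zero _).1 (ih (C.par k) (by omega))) x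
        (Y.inj _ (S.mem _) _ (S.mem k) (hnc _ _ (C.tree_ne k h0)) _ (hιmem _ x) hx)
  have hback : ∀ k, k ≠ 0 → ∀ x, Y.T (d (C.par k)) (ι k x) = ι (C.par k) x := fun k hk x => by
    rw [hιk k hk]
    exact Y.inv _ (S.mem _) _ (S.mem k) (hnc _ _ (C.tree_ne k hk)) _ (hιmem _ x)
  have hι1 : ∀ x : P, ι 1 x = Y.T (d 1) x.1 := fun x => by
    rw [hιk 1 (Ne.symm (by simp)), C.par1, hι0]; rfl
  have hι2 : ∀ x : P, ι 2 x = Y.T (d 2) (Y.T (d 1) x.1) := fun x => by
    rw [hιk 2 (by simp [Fin.ext_iff, Nat.mod_eq_of_lt]), C.par2, AddMonoidHom.comp_apply, hι1]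
  have hι3 : C.shared = true → ∀ x : P, ι 3 x = Y.T (d 3) (Y.T (d 1) x.1) := fun hs x => by
    rw [hιk 3 (by simp [Fin.ext_iff, Nat.mod_eq_of_lt]), C.par3 hs, AddMonoidHom.comp_apply, hι1]
  let B : Fin (n + 4) → Fin (n + 4) → K4 := fun j k =>
    if C.shared ∧ ((j = 0 ∧ k = 3) ∨ (j = 3 ∧ k = 0)) then 1 else 0
  let co : (Fin (n + 4) → K4) →ₗ[K4] (Fin (n + 4) → K4) := Matrix.mulVecLin C.invᵀ
  let vec : (Fin (n + 4) → K4) →ₗ[K4] (Fin (n + 4) → K4) := Matrix.mulVecLin (Matrix.of C.u)ᵀ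
  let R : Rep (n + 4) (NMod c) P :=
    { two := ptwo
      om := Ω
      nu := ν
      om_om := fun x => (tri x).1
      nu_om := fun x => by
        by_cases hs : C.shared = true
        · obtain ⟨h1, h2⟩ := shfacts hs
          simp only [ν, hs, if_true, AddMonoidHom.add_apply]
          exact (pair_facts ptwo (fun u => (tri u).1) (fun u => (h1 u).1) h2 x).1
        · simp [ν, hs]
      nu_nu := fun x => by
        by_cases hs : C.shared = true
        · obtain ⟨h1, h2⟩ := shfacts hs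
          simp only [ν, hs, if_true, AddMonoidHom.add_apply]
          exact (pair_facts ptwo (fun u => (tri u).1) (fun u => (h1 u).1) h2 x).2
        · simp [ν, hs]
      ι := ι
      T := fun k => Y.T (d k)
      H := fun j k => Cfsg.hermForm (n + 4) K4 2 (C.u j) (C.u k)
      B := B
      co := co
      vec := vec
      co_vec := fun a => by
        simp only [co, vec, Matrix.mulVecLin_apply, Matrix.mulVec_mulVec, ← Matrix.transpose_mul,
          (mul_eq_one_comm.1 C.hinv : Matrix.of C.u * C.inv = 1), Matrix.transpose_one, Matrix.one_mulVec]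
      vec_co := fun a => by
        simp only [co, vec, Matrix.mulVecLin_apply, Matrix.mulVec_mulVec, ← Matrix.transpose_mul,
          C.hinv, Matrix.transpose_one, Matrix.one_mulVec]
      hT := fun j k x => by
        have zero : B j k = 0 → Cfsg.hermForm (n + 4) K4 2 (C.u j) (C.u k) = 0 →
            Y.T (d k) (ι j x) = 0 := fun _ h =>
          Y.perp _ (S.mem j) _ (S.mem k) (hc0 j k h) _ (hιmem j x)
        rcases C.gram j k with h | ⟨hp, h⟩ | ⟨rfl, rfl, h⟩ | ⟨rfl, rfl, h⟩ | ⟨hs, rfl, rfl, h⟩ |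
            ⟨hs, rfl, rfl, h⟩
        · have hB : B j k = 0 := if_neg fun hb => by
            obtain ⟨hs, ⟨rfl, rfl⟩ | ⟨rfl, rfl⟩⟩ := hb
            · exact (C.sh hs).1 h
            · exact (C.sh hs).1 (herm_swap_eq_zero h)
          rw [zero hB h, hB, h]
          simp [show (0 : K4) = ⟨false, false⟩ from rfl]
        · have hB : B j k = 0 := if_neg fun hb => by
            obtain ⟨hs, ⟨rfl, rfl⟩ | ⟨rfl, rfl⟩⟩ := hb
            · rcases hp with ⟨hp, -⟩ | ⟨-, hj⟩
              · rw [C.par3 hs] at hp; simp [Fin.ext_iff, Nat.mod_eq_of_lt] at hp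
              · exact hj rfl
            · rcases hp with ⟨-, hk⟩ | ⟨hp, -⟩
              · exact hk rfl
              · rw [C.par3 hs] at hp; simp [Fin.ext_iff, Nat.mod_eq_of_lt] at hp
          rw [hB, h]
          simp only [show (1 : K4) = ⟨true, false⟩ from rfl, show (0 : K4) = ⟨false, false⟩ from rfl,
            if_true, Bool.false_eq_true, if_false, add_zero]
          rcases hp with ⟨rfl, hk⟩ | ⟨rfl, hj⟩
          · rw [hιk k hk]; rfl
          · exact hback j hj x
        · have hB : B 2 0 = 0 := if_neg fun hb => by simp [Fin.ext_iff, Nat.mod_eq_of_lt] at hb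
          rw [hB, h]
          simp only [show (0 : K4) = ⟨false, false⟩ from rfl, if_true, Bool.false_eq_true, if_false,
            add_zero, zero_add, hι0, hι2]
          rfl
        · have hB : B 0 2 = 0 := if_neg fun hb => by simp [Fin.ext_iff, Nat.mod_eq_of_lt] at hb
          rw [hB, h]
          simp only [show (0 : K4) = ⟨false, false⟩ from rfl, if_true, Bool.false_eq_true, if_false,
            add_zero]
          rw [add_comm x, ← (tri x).2, hι0, hι2]
          change Y.T (d 2) x.1 = Y.T (d 2) (Y.T (d 1) (Y.T (d 0) (Y.T (d 1) (Y.T (d 2) x.1))))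
          rw [Y.inv _ (S.mem 1) _ (S.mem 0) (fun e => n01 e.symm) _ (Y.mem _ (S.mem 1) _),
            Y.inv _ (S.mem 2) _ (S.mem 1) (fun e => n12 e.symm) _ (Y.mem _ (S.mem 2) _)]
        · have hB : B 3 0 = 1 := if_pos ⟨hs, Or.inr ⟨rfl, rfl⟩⟩
          rw [hB, h]
          simp only [show (1 : K4) = ⟨true, false⟩ from rfl, if_true, Bool.false_eq_true, if_false,
            add_zero, zero_add, ν, hs, AddMonoidHom.add_apply]
          rw [show Ω x + (Ω' x + Ω x) = Ω' x by rw [add_comm (Ω' x), ptwo'], hι0, hι3 hs]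
          rfl
        · have hB : B 0 3 = 1 := if_pos ⟨hs, Or.inl ⟨rfl, rfl⟩⟩
          rw [hB, h]
          simp only [show (1 : K4) = ⟨true, false⟩ from rfl, if_true, Bool.false_eq_true, if_false,
            add_zero, ν, hs, AddMonoidHom.add_apply]
          rw [show x + Ω x + (Ω' x + Ω x) = Ω' x + x by
              rw [add_assoc, add_comm (Ω' x), ptwo', add_comm],
            ← ((shfacts hs).1 x).2, hι0, hι3 hs]
          change Y.T (d 3) x.1 = Y.T (d 3) (Y.T (d 1) (Y.T (d 0) (Y.T (d 1) (Y.T (d 3) x.1))))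
          have n13 : ¬Commute (d 1) (d 3) := by
            have := hnc _ _ (C.tree_ne 3 (by simp [Fin.ext_iff, Nat.mod_eq_of_lt]))
            rwa [C.par3 hs] at this
          rw [Y.inv _ (S.mem 1) _ (S.mem 0) (fun e => n01 e.symm) _ (Y.mem _ (S.mem 1) _),
            Y.inv _ (S.mem 3) _ (S.mem 1) (fun e => n13 e.symm) _ (Y.mem _ (S.mem 3) _)] }
  -- conjugation as an operator
  have hN := N_normal c
  let cj : G → (NMod c →+ NMod c) := fun g => AddMonoidHom.mk'
    (fun m => NMod.mk (g * m.val * g⁻¹) (hN.conj_mem _ m.val_mem g))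
    (fun a b => NMod.ext (by simp [NMod.val_mk, NMod.val_add, mul_assoc]))
  have hcj : ∀ g m, (cj g m).val = g * m.val * g⁻¹ := fun g m => rfl
  let L : G → ((Fin (n + 4) → K4) →ₗ[K4] (Fin (n + 4) → K4)) := fun g =>
    Matrix.mulVecLin (π g).1.1
  have hgood_mul : ∀ a b, R.Good (cj a) (L a) → R.Good (cj b) (L b) → R.Good (cj (a * b)) (L (a * b)) :=
    fun a b ha hb => (ha.comp R hb).congr R (fun m => NMod.ext (by simp [hcj, mul_assoc]))
      fun v => by simp [L, Matrix.mulVec_mulVec]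
  have hgood_d : ∀ k, R.Good (cj (d k)) (L (d k)) := fun k => by
    refine (R.good_step (k := k) (L := L (d k)) fun v => ?_).congr R (fun m => NMod.ext ?_) fun _ => rfl
    · have hv : Cfsg.hermForm (n + 4) K4 2 v (C.u k) = ∑ j, R.co v j * R.H j k := by
        conv_lhs => rw [← R.vec_co v, show R.vec (R.co v) = ∑ j, R.co v j • C.u j by
          funext i; simp [R, vec, Matrix.mulVec, Matrix.vecMul, dotProduct, mul_comm]]
        rw [herm_sum]
        exact Finset.sum_congr rfl fun j _ => herm_smul _ _ _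
      have e : L (d k) v = v + Cfsg.hermForm (n + 4) K4 2 v (C.u k) • C.u k := S.tv k v
      rw [e, map_add, map_smul, hv]
      congr 1
      have h1 : R.co (C.u k) = Pi.single k 1 := by
        have : R.vec (Pi.single k 1) = C.u k := by
          funext i; simp [R, vec, Matrix.mulVec_single]
        rw [← this, R.co_vec]
      rw [h1]
      funext i
      by_cases hik : i = k <;> simp [hik, Pi.single_eq_same, Pi.single_eq_of_ne]
    · rw [hcj, c.cls.toTSet.inv_eq (S.mem k), AddMonoidHom.add_apply, AddMonoidHom.id_apply, NMod.val_add,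
        conj_eq_mul_T c m.val_mem, hT _ (S.mem k)]
  have hgood_N : ∀ g ∈ N π D, R.Good (cj g) (L g) := fun g hg => R.good_id.congr R
    (fun m => NMod.ext (by
      rw [hcj, (commute_N c hg m.val_mem).eq, mul_inv_cancel_right, AddMonoidHom.id_apply]))
    fun v => by simp [L, ker_of_mem_N hg]
  let K := Subgroup.closure ((N π D : Set G) ∪ Set.range d)
  have hK : K = ⊤ := by
    rw [eq_top_iff, ← c.cls.gen, Subgroup.closure_le]
    intro f hf
    obtain ⟨g, rfl⟩ := c.cls.trans (d 0) (S.mem 0) f hf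
    have hπ : K.map π = ⊤ := by
      rw [eq_top_iff, ← S.gen, Subgroup.closure_le]
      rintro _ ⟨k, rfl⟩
      exact ⟨d k, Subgroup.subset_closure (Or.inr ⟨k, rfl⟩), rfl⟩
    obtain ⟨a, ha, hag⟩ : π g ∈ K.map π := by rw [hπ]; trivial
    have hy : (a * d 0 * a⁻¹)⁻¹ * (g * d 0 * g⁻¹) ∈ N π D :=
      Subgroup.subset_closure (Set.mem_biUnion (c.cls.conj a _ (S.mem 0))
        ⟨by simp [hag]; group, by rw [mul_inv_cancel_left]; exact hf⟩)
    have h0 : d 0 ∈ K := Subgroup.subset_closure (Or.inr ⟨0, rfl⟩)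
    have := mul_mem (mul_mem (mul_mem ha h0) (inv_mem ha)) (Subgroup.subset_closure (Or.inl hy))
    rwa [mul_inv_cancel_left] at this
  have hgood : ∀ g, R.Good (cj g) (L g) := fun g => by
    have hg : g ∈ K := by rw [hK]; trivial
    induction hg using Subgroup.closure_induction_left with
    | one => exact hgood_N 1 (one_mem _)
    | mul_left a ha b _ ih =>
      refine hgood_mul a b ?_ ih
      rcases ha with ha | ⟨k, rfl⟩
      exacts [hgood_N a ha, hgood_d k]
    | inv_mul_cancel a ha b _ ih =>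
      refine hgood_mul a⁻¹ b ?_ ih
      rcases ha with ha | ⟨k, rfl⟩
      · exact hgood_N a⁻¹ (inv_mem ha)
      · rw [c.cls.toTSet.inv_eq (S.mem k)]; exact hgood_d k
  -- kernel elements commute with the operators
  have hcjT : ∀ v, π v = 1 → ∀ e ∈ D, ∀ m, cj v (Y.T e m) = Y.T e (cj v m) := by
    intro v hv e he m
    refine NMod.ext ?_
    rw [hcj, hT e he, hT e he, hcj]
    have h2 := conj_congr c he (c.cls.conj v e he) (by simp [hv]) ((N_normal c).conj_mem _ m.val_mem v)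
    calc v * OTwo.T e m.val * v⁻¹
        = (v * m.val * v⁻¹) * ((v * e * v⁻¹) * (v * m.val * v⁻¹) * (v * e * v⁻¹)) := by
          simp [OTwo.T, mul_assoc]
      _ = (v * m.val * v⁻¹) * (e * (v * m.val * v⁻¹) * e) := by rw [h2]
      _ = OTwo.T e (v * m.val * v⁻¹) := by simp [OTwo.T, mul_assoc]
  have hfix : ∀ v, π v = 1 → ∀ a ∈ A π D (d 0), Commute v a := by
    intro v hv a ha
    have hL : ∀ x, (LinearMap.id : _ →ₗ[K4] _) x = L v x := fun x => by simp [L, hv]
    have h1 : Cfsg.hermForm (n + 4) K4 2 (C.u 0) (C.u 1) = 1 := by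
      rcases C.gram 0 1 with h | ⟨-, h⟩ | ⟨h, -⟩ | ⟨-, h, -⟩ | ⟨-, h, -⟩ | ⟨-, -, h, -⟩
      · exact absurd (hc0 0 1 h) n01
      · exact h
      all_goals simp [Fin.ext_iff, Nat.mod_eq_of_lt] at h
    have hB : B 0 1 = 0 := if_neg fun hb => by simp [Fin.ext_iff, Nat.mod_eq_of_lt] at hb
    let x : P := ⟨NMod.mk a (A_le_N (S.mem 0) ha), (hA _ _).2 ha⟩
    have hmem : ∀ y : P, cj v y.1 ∈ Y.A (d 0) := fun y =>
      (hA _ _).2 (conj_mem_A c (S.mem 0) hv ((hA _ _).1 y.2))
    have := R.fix_base ((hgood v).congr R (fun _ => rfl) hL) (o := 0) (k := 1) h1 hB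
      (hιinj 1 1 (by simp)) (fun y => ⟨⟨cj v y.1, hmem y⟩, by simp [R, hι0]; rfl, by
        simp only [R, hι0, AddSubgroup.subtype_apply]
        change cj v (Y.T (d 0) (Y.T (d 2) (Y.T (d 1) y.1))) = _
        rw [hcjT v hv _ (S.mem 0), hcjT v hv _ (S.mem 2), hcjT v hv _ (S.mem 1)]
        rfl⟩) x
    have e : v * a * v⁻¹ = a := by
      have := congrArg (fun z : NMod c => z.val) this
      simp only [R, hι0, hcj] at this
      exact this
    exact mul_inv_eq_iff_eq_mul.1 e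
  have hcent : ∀ v, π v = 1 → ∀ f ∈ D, ∀ a ∈ A π D f, Commute v a := by
    intro v hv f hf a ha
    obtain ⟨g, hg⟩ := c.cls.trans f hf (d 0) (S.mem 0)
    have h := hfix (g * v * g⁻¹) (by simp [hv]) (g * a * g⁻¹) (hg ▸ conj_A c g ha)
    exact (Commute.conj_iff g).1 h
  refine ⟨fun v hv m hm => ?_, fun g hg m hm hgm => ?_⟩
  · induction hm using Subgroup.closure_induction with
    | mem y hy =>
      obtain ⟨f, hf, hyf⟩ := Set.mem_iUnion₂.1 hy
      exact hcent v hv f hf y (Subgroup.subset_closure hyf)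
    | one => exact Commute.one_right v
    | mul y z _ _ hy hz => exact hy.mul_right hz
    | inv y _ hy => exact hy.inv_right
  · have hspan : ∀ m : G, (hm : m ∈ N π D) → (NMod.mk m hm : NMod c) ∈ R.span := by
      intro m hm
      induction hm using Subgroup.closure_induction with
      | mem y hy =>
        obtain ⟨f, hf, hyf⟩ := Set.mem_iUnion₂.1 hy
        obtain ⟨g, rfl⟩ := c.cls.trans (d 0) (S.mem 0) f hf
        have h0 : g⁻¹ * y * g ∈ A π D (d 0) := by
          simpa [mul_assoc] using conj_A c g⁻¹ (Subgroup.subset_closure hyf : y ∈ A π D _)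
        have h2 := (hgood g).mem_span R 0 ⟨NMod.mk _ (A_le_N (S.mem 0) h0), (hA _ _).2 h0⟩
        convert h2 using 1
        refine NMod.ext ?_
        simp only [R, hι0, hcj]
        change y = g * (g⁻¹ * y * g) * g⁻¹
        simp [mul_assoc]
      | one => exact zero_mem _
      | mul y z hy hz h1 h2 =>
        convert add_mem h1 h2 using 1
        exact NMod.ext rfl
      | inv y hy h1 =>
        convert h1 using 1
        exact NMod.ext (inv_N c hy)
    have := R.eq_zero_of_fixed (hgood g) Y.two hg (hspan m hm)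
      (NMod.ext (by rw [hcj]; change g * m * g⁻¹ = m; rw [hgm.eq, mul_inv_cancel_right]))
    exact congrArg (fun z : NMod c => z.val) this

/-- The kernel is elementary abelian. -/
theorem elementary (S : Setup π D C d) :
    (∀ v w, π v = 1 → π w = 1 → v * w = w * v) ∧ ∀ v, π v = 1 → v * v = 1 := by
  have c := S.ctx
  have hN := (core S).1
  have hcentral : ∀ z : G, (∀ f ∈ D, z * f * z⁻¹ = f) → z = 1 := fun z hz => by
    have : z ∈ Subgroup.center G := by
      rw [Subgroup.mem_center_iff]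
      intro y
      have hy : y ∈ Subgroup.closure D := by rw [c.cls.gen]; trivial
      have hle : Subgroup.closure D ≤ Subgroup.centralizer {z} :=
        (Subgroup.closure_le _).2 fun f hf => Subgroup.mem_centralizer_singleton_iff.2
          (mul_inv_eq_iff_eq_mul.1 (hz f hf)).symm
      exact Subgroup.mem_centralizer_singleton_iff.1 (hle hy)
    rwa [c.center, Subgroup.mem_bot] at this
  -- conjugation by a kernel element multiplies `f` by an element of `N` that the kernel fixes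
  have key : ∀ v f, π v = 1 → f ∈ D → ∃ x ∈ N π D, v * f * v⁻¹ = f * x := fun v f hv hf =>
    ⟨f⁻¹ * (v * f * v⁻¹), A_le_N hf (conj_self_mem c hf hv), (mul_inv_cancel_left _ _).symm⟩
  have two : ∀ v w f, π v = 1 → π w = 1 → f ∈ D → ∀ x ∈ N π D, ∀ y ∈ N π D,
      v * f * v⁻¹ = f * x → w * f * w⁻¹ = f * y → v * w * f * (v * w)⁻¹ = f * (x * y) := by
    intro v w f hv _ _ x _ y hy hx' hy'
    calc v * w * f * (v * w)⁻¹ = v * (w * f * w⁻¹) * v⁻¹ := by simp [mul_assoc]
      _ = v * f * v⁻¹ * (v * y * v⁻¹) := by rw [hy']; simp [mul_assoc]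
      _ = f * (x * y) := by rw [hx', (hN v hv y hy).eq, mul_inv_cancel_right, mul_assoc]
  refine ⟨fun v w hv hw => ?_, fun v hv => hcentral _ fun f hf => ?_⟩
  · have h1 : (w * v)⁻¹ * (v * w) = 1 := hcentral _ fun f hf => by
      obtain ⟨x, hx, hx'⟩ := key v f hv hf
      obtain ⟨y, hy, hy'⟩ := key w f hw hf
      have e1 := two v w f hv hw hf x hx y hy hx' hy'
      have e2 := two w v f hw hv hf y hy x hx hy' hx'
      rw [(commute_N c hy hx).eq, ← e1] at e2
      calc (w * v)⁻¹ * (v * w) * f * ((w * v)⁻¹ * (v * w))⁻¹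
          = (w * v)⁻¹ * (v * w * f * (v * w)⁻¹) * (w * v) := by simp [mul_assoc]
        _ = f := by rw [← e2]; simp [mul_assoc]
    exact (inv_mul_eq_one.1 h1).symm
  · obtain ⟨x, hx, hx'⟩ := key v f hv hf
    rw [two v v f hv hv hf x hx x hx hx' hx', sq_N c hx, mul_one]

end Cfsg.Agent.Transpos.OTwo
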