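import Cfsg.Agent.Lib.Transpos.OTwo.Certs
import Cfsg.Prelude.Def_Transfer

/-!
# `G / O₂(G) ≅ SU_n(F)`, `|F| = 4`, moved to the model field
-/

set_option autoImplicit false

namespace Cfsg.Agent.Transpos.OTwo

open Cfsg.Agent.Transpos.SU32

theorem exists_hom {G : Type*} [Group G] [Finite G] (n : ℕ)
    (hq : ∃ (F : Type) (_ : Field F) (_ : Fintype F), Fintype.card F = 4 ∧
      Nonempty (G ⧸ Cfsg.pCore 2 G ≃* ↥(Cfsg.SU n F 2))) :
    ∃ π : G →* ↥(Cfsg.SU n K4 2), Function.Surjective π ∧ π.ker = Cfsg.pCore 2 G ∧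
      IsPGroup 2 π.ker := by
  obtain ⟨F, _, _, hF, ⟨e⟩⟩ := hq
  obtain ⟨r⟩ : Nonempty (F ≃+* K4) :=
    ⟨FiniteField.ringEquivOfCardEq (by rw [card_K4, hF])⟩
  let e' := e.trans (suMap r n 2)
  let π : G →* ↥(Cfsg.SU n K4 2) := e'.toMonoidHom.comp (QuotientGroup.mk' (Cfsg.pCore 2 G))
  have hk : π.ker = Cfsg.pCore 2 G := by
    ext x
    simp [π, MonoidHom.mem_ker]
  refine ⟨π, e'.surjective.comp (QuotientGroup.mk'_surjective _), hk, ?_⟩
  rw [hk]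
  exact PCore.isPGroup_pCore

/-- With the geometric facts, the kernel is elementary abelian. -/
theorem elementary_pCore {G : Type*} [Group G] [Finite G] {n : ℕ} {C : Cert n} {D : Set G}
    {π : G →* ↥(Cfsg.SU (n + 4) K4 2)} {d : Fin (n + 4) → G} (S : Setup π D C d)
    (hk : π.ker = Cfsg.pCore 2 G) : Cfsg.IsElementaryAbelian 2 (Cfsg.pCore 2 G) := by
  obtain ⟨h1, h2⟩ := elementary S
  have hm : ∀ x : ↥(Cfsg.pCore 2 G), π x.1 = 1 := fun x => by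
    rw [← MonoidHom.mem_ker, hk]; exact x.2
  refine ⟨⟨⟨fun a b => Subtype.ext (h1 _ _ (hm a) (hm b))⟩⟩, fun a ha => ?_⟩
  rw [pow_two]
  exact h2 a (hm ⟨a, ha⟩)

theorem su_seven_elementary {G : Type*} [Group G] [Finite G] (hb : Bridge (3 + 4))
    (hr : Reach (3 + 4) seedsSeven) {D : Set G} (hD : Cfsg.IsThreeTranspositionClass D)
    (hZ : Subgroup.center G = ⊥)
    (hq : ∃ (F : Type) (_ : Field F) (_ : Fintype F), Fintype.card F = 4 ∧
      Nonempty (G ⧸ Cfsg.pCore 2 G ≃* ↥(Cfsg.SU 7 F 2))) :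
    Cfsg.IsElementaryAbelian 2 (Cfsg.pCore 2 G) := by
  obtain ⟨π, hπ, hk, h2⟩ := exists_hom 7 hq
  obtain ⟨-, -, d, S⟩ := exists_setup certSeven hb hr stepsSeven idxSeven seedsSeven_eq idxSeven_ne
    hπ (Fischer.TClass.of hD) hZ h2
  exact elementary_pCore S hk

end Cfsg.Agent.Transpos.OTwo
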