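import Cfsg.Agent.Lib.Transpos.OTwo.Quot
import Cfsg.Agent.Lib.Transpos.OTwo.Complement

/-!
# `G / O₂(G) ≅ SU_5(2)`
-/

set_option autoImplicit false

namespace Cfsg.Agent.Transpos.OTwo

open Cfsg.Agent.Transpos.SU32

theorem su_five_split {G : Type*} [Group G] [Finite G] (hb : Bridge (1 + 4))
    (hr : Reach (1 + 4) seedsFive) (gr : Graph5) {D : Set G}
    (hD : Cfsg.IsThreeTranspositionClass D) (hZ : Subgroup.center G = ⊥)
    (hq : ∃ (F : Type) (_ : Field F) (_ : Fintype F), Fintype.card F = 4 ∧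
      Nonempty (G ⧸ Cfsg.pCore 2 G ≃* ↥(Cfsg.SU 5 F 2))) :
    Cfsg.IsElementaryAbelian 2 (Cfsg.pCore 2 G) ∧
      ∃ K : Subgroup G, (Cfsg.pCore 2 G).IsComplement' K := by
  obtain ⟨π, hπ, hk, h2⟩ := exists_hom 5 hq
  obtain ⟨tv1, -, d, S⟩ := exists_setup certFive hb hr stepsFive idxFive seedsFive_eq idxFive_ne
    hπ (Fischer.TClass.of hD) hZ h2
  exact ⟨elementary_pCore S hk, hk ▸ exists_complement_five S hπ gr tv1⟩

end Cfsg.Agent.Transpos.OTwo
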