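import Cfsg.Agent.Lib.Transpos.OTwo.Basic

/-!
# The additive picture of the abelian normal group

`Sys` records, for operators `T d` on an additive group of exponent two with subgroups `A d`,
the facts proved in `OTwo.Basic`; `triangle` and `shared` are the relations satisfied by the
composite maps around triangles.  `exists_sys` builds the system from a `Ctx`.
-/

set_option autoImplicit false

namespace Cfsg.Agent.Transpos.OTwo

variable {G : Type*} [Group G]

/-- Operators of the members on the module. -/
structure Sys (D : Set G) (M : Type*) [AddCommGroup M] where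
  /-- the subgroup of a member -/
  A : G → AddSubgroup M
  /-- the operator of a member -/
  T : G → M →+ M
  two : ∀ x : M, x + x = 0
  mem : ∀ d ∈ D, ∀ x, T d x ∈ A d
  perp : ∀ d ∈ D, ∀ e ∈ D, Commute d e → ∀ a ∈ A d, T e a = 0
  inj : ∀ d ∈ D, ∀ e ∈ D, ¬Commute d e → ∀ a ∈ A d, T e a = 0 → a = 0
  inv : ∀ d ∈ D, ∀ e ∈ D, ¬Commute d e → ∀ a ∈ A d, T d (T e a) = a
  third : ∀ e ∈ D, ∀ f ∈ D, ¬Commute e f → ∀ x,
    T (f * e * f) x = T e x + T f (T e x) + T e (T f x) + T f x

namespace Sys

variable {D : Set G} {M : Type*} [AddCommGroup M] (S : Sys D M)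
include S

theorem two' (x y : M) : x + (x + y) = y := by rw [← add_assoc, S.two, zero_add]

theorem eq_of_add {x y : M} (h : x + y = 0) : x = y := by
  have := congrArg (· + y) h
  simpa [add_assoc, S.two] using this

/-- The composite around the triangle `d, e, f`. -/
def hol (d e f : G) : M →+ M := (S.T d).comp ((S.T f).comp (S.T e))

theorem hol_apply (d e f : G) (x : M) : S.hol d e f x = S.T d (S.T f (S.T e x)) := rfl

theorem hol_hol {d e f : G} (hd : d ∈ D) (he : e ∈ D) (hf : f ∈ D) (hde : ¬Commute d e)
    (hdf : ¬Commute d f) (hef : ¬Commute e f) {a : M} (ha : a ∈ S.A d) :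
    S.hol d e f (S.hol d f e a) = a := by
  simp only [hol_apply]
  rw [S.inv e he d hd (fun h => hde h.symm) _ (S.mem e he _),
    S.inv f hf e he (fun h => hef h.symm) _ (S.mem f hf _), S.inv d hd f hf hdf _ ha]

/-- Third point off the perp of `d`: the composite satisfies `x² + x + 1 = 0`. -/
theorem triangle {d e f : G} (hd : d ∈ D) (he : e ∈ D) (hf : f ∈ D) (hr : f * e * f ∈ D)
    (hde : ¬Commute d e) (hdf : ¬Commute d f) (hef : ¬Commute e f) (hdr : ¬Commute d (f * e * f))
    {a : M} (ha : a ∈ S.A d) :
    S.hol d e f (S.hol d e f a) = S.hol d e f a + a ∧ S.hol d f e a = S.hol d e f a + a := by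
  have h := S.inv d hd _ hr hdr a ha
  rw [S.third e he f hf hef, map_add, map_add, map_add, S.inv d hd e he hde a ha,
    S.inv d hd f hf hdf a ha] at h
  change a + S.hol d e f a + S.hol d f e a + a = a at h
  have h1 : S.hol d e f a + S.hol d f e a = a := by
    have e2 : a + S.hol d e f a + S.hol d f e a + a = S.hol d e f a + S.hol d f e a := by
      rw [add_comm _ a, ← add_assoc, ← add_assoc, S.two, zero_add]
    exact e2.symm.trans h
  have h2 : S.hol d f e a = S.hol d e f a + a := by
    have h' := S.two' (S.hol d e f a) (S.hol d f e a)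
    rw [h1] at h'
    exact h'.symm
  refine ⟨?_, h2⟩
  have h3 := congrArg (S.hol d e f) h2
  rw [S.hol_hol hd he hf hde hdf hef ha, map_add] at h3
  have h4 := congrArg (· + S.hol d e f a) h3
  simp only [add_assoc, S.two, add_zero] at h4
  rw [← h4, add_comm]

/-- Two triangles on the edge `d e` with thirds `f`, `g` commuting: the composite of the triangle
`d, f e f, g` is the product of the two. -/
theorem shared {d e f g : G} (hd : d ∈ D) (he : e ∈ D) (hf : f ∈ D) (hg : g ∈ D)
    (hr : f * e * f ∈ D) (hde : ¬Commute d e) (hdf : ¬Commute d f) (hef : ¬Commute e f)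
    (hdr : ¬Commute d (f * e * f)) (hfg : Commute f g) {a : M} (ha : a ∈ S.A d) :
    S.hol d (f * e * f) g a = S.hol d e g (S.hol d e f a) := by
  have h1 := (S.triangle hd he hf hr hde hdf hef hdr ha).2
  have h2 : ∀ x, x ∈ S.A f → S.T g x = 0 := S.perp f hf g hg hfg
  have h3 : S.T g (S.T e (S.T f a)) = S.T g (S.T e (S.hol d f e a)) := by
    rw [hol_apply, S.inv e he d hd (fun h => hde h.symm) _ (S.mem e he _)]
  rw [hol_apply, S.third e he f hf hef]
  simp only [map_add, h2 _ (S.mem f hf _), map_zero, add_zero]
  rw [h3, h1]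
  simp only [map_add, hol_apply]
  rw [add_comm (S.T d (S.T g (S.T e a))), add_assoc, S.two, add_zero]

end Sys

variable {H : Type*} [Group H] {π : G →* H} {D : Set G}

/-- The normal group written additively. -/
def NMod (_ : Ctx π D) := Additive ↥(N π D)

instance instAddCommGroupNMod (c : Ctx π D) : AddCommGroup (NMod c) :=
  { (inferInstanceAs (AddGroup (Additive ↥(N π D))) : AddGroup (Additive ↥(N π D))) with
    add_comm := fun x y => congrArg Additive.ofMul
      (Subtype.ext (commute_N c x.toMul.2 y.toMul.2).eq) }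

namespace NMod

variable {c : Ctx π D}

/-- The element of `G`. -/
def val (x : NMod c) : G := ((Additive.toMul x : ↥(N π D)) : G)

/-- An element of the normal group. -/
def mk (a : G) (ha : a ∈ N π D) : NMod c := Additive.ofMul ⟨a, ha⟩

theorem val_mem (x : NMod c) : x.val ∈ N π D := (Additive.toMul x : ↥(N π D)).2
theorem val_mk (a : G) (ha : a ∈ N π D) : (mk a ha : NMod c).val = a := rfl
theorem val_zero : (0 : NMod c).val = 1 := rfl
theorem val_add (x y : NMod c) : (x + y).val = x.val * y.val := rfl

theorem ext {x y : NMod c} (h : x.val = y.val) : x = y :=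
  Additive.toMul.injective (Subtype.ext h)

end NMod

/-- The system of a context, on the normal group written additively. -/
theorem exists_sys (c : Ctx π D) :
    ∃ S : Sys D (NMod c), (∀ d x, x ∈ S.A d ↔ NMod.val x ∈ A π D d) ∧
      ∀ d ∈ D, ∀ x, NMod.val (S.T d x) = OTwo.T d (NMod.val x) := by
  classical
  let T' : G → NMod c →+ NMod c := fun d =>
    if hd : d ∈ D then AddMonoidHom.mk'
      (fun x => NMod.mk (OTwo.T d x.val) (T_mem_N c hd x.val_mem))
      (fun x y => NMod.ext (T_mul c hd x.val_mem y.val_mem))
    else 0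
  have hT : ∀ d ∈ D, ∀ x, (T' d x).val = OTwo.T d x.val := fun d hd x => by
    simp only [T', dif_pos hd]; rfl
  let A' : G → AddSubgroup (NMod c) := fun d =>
    { carrier := {x | x.val ∈ A π D d}
      zero_mem' := by simp [NMod.val_zero]
      add_mem' := fun {x y} hx hy => by
        change (x + y).val ∈ A π D d
        rw [NMod.val_add]; exact mul_mem hx hy
      neg_mem' := fun {x} hx => show x.val⁻¹ ∈ A π D d from inv_mem hx }
  refine ⟨⟨A', T', ?_, ?_, ?_, ?_, ?_, ?_⟩, fun d x => Iff.rfl, hT⟩
  · exact fun x => NMod.ext (by rw [NMod.val_add, sq_N c x.val_mem, NMod.val_zero])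
  · intro d hd x
    change (T' d x).val ∈ A π D d
    rw [hT d hd]
    exact T_mem c hd x.val_mem
  · intro d hd e he hde a ha
    refine NMod.ext ?_
    rw [hT e he, NMod.val_zero]
    exact T_eq_one c hd he hde ha
  · intro d hd e he hde a ha h
    refine NMod.ext (T_inj c hd he hde ha ?_)
    rw [← hT e he, h, NMod.val_zero]
  · intro d hd e he hde a ha
    refine NMod.ext ?_
    rw [hT d hd, hT e he]
    exact T_T c hd he hde ha
  · intro e he f hf hef x
    have hr := c.cls.toTSet.conj_mem hf he
    refine NMod.ext ?_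
    rw [hT _ hr, NMod.val_add, NMod.val_add, NMod.val_add, hT e he x, hT f hf (T' e x),
      hT e he (T' f x), hT e he x, hT f hf x]
    exact T_third c he hf hef x.val_mem

end Cfsg.Agent.Transpos.OTwo
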